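/-
Counting fixed points, and groups acting transitively on the nonzero vectors of a finite
elementary abelian group.
-/
import Mathlib
import Cfsg.Agent.Lib.Solvable.Fitting

set_option autoImplicit false
set_option linter.unusedSectionVars false
set_option linter.style.haveILetI false

namespace Cfsg.Agent.TransLinear

open Cfsg
open scoped commutatorElement

set_option maxHeartbeats 200000

variable {D E : Type*} [Group D] [Finite D] [AddCommGroup E] [Finite E] [DistribMulAction D E]

/-- The fixed points of an element. -/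
def fixSub (E : Type*) [AddCommGroup E] [DistribMulAction D E] (a : D) : AddSubgroup E where
  carrier := {e | a • e = e}
  zero_mem' := smul_zero a
  add_mem' := fun {x y} hx hy => by
    show a • (x + y) = x + y
    rw [smul_add, show a • x = x from hx, show a • y = y from hy]
  neg_mem' := fun {x} hx => by
    show a • (-x) = -x
    rw [smul_neg, show a • x = x from hx]

@[simp] theorem mem_fixSub {a : D} {e : E} : e ∈ fixSub E a ↔ a • e = e := Iff.rfl

/-- An invariant subgroup is invariant under the powers. -/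
theorem invariant_zpowers {a : D} {U : AddSubgroup E} (h : ∀ u ∈ U, a • u ∈ U) {b : D}
    (hb : b ∈ Subgroup.zpowers a) : ∀ u ∈ U, b • u ∈ U := by
  rw [← mem_powers_iff_mem_zpowers] at hb
  obtain ⟨i, rfl⟩ := hb
  intro u hu
  induction i with
  | zero => show a ^ 0 • u ∈ U; rwa [pow_zero, one_smul]
  | succ i ih => show a ^ (i + 1) • u ∈ U; rw [pow_succ', mul_smul]; exact h _ ih

/-- Fixed points modulo a prime. -/
theorem card_modEq {t : ℕ} (ht : t.Prime) {a : D} (ha : a ^ t = 1) {U : AddSubgroup E}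
    (hU : ∀ u ∈ U, a • u ∈ U) :
    Nat.card U ≡ Nat.card (U ⊓ fixSub E a : AddSubgroup E) [MOD t] := by
  haveI := Fact.mk ht
  let S : SubMulAction (Subgroup.zpowers a) E :=
    { carrier := U
      smul_mem' := fun g u hu => invariant_zpowers hU g.2 u hu }
  have hp : IsPGroup t (Subgroup.zpowers a) := by
    rcases (Nat.dvd_prime ht).1 (orderOf_dvd_of_pow_eq_one ha) with h | h
    · exact IsPGroup.of_card (n := 0) (by rw [Nat.card_zpowers, h, pow_zero])
    · exact IsPGroup.of_card (n := 1) (by rw [Nat.card_zpowers, h, pow_one])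
  refine Nat.ModEq.trans (hp.card_modEq_card_fixedPoints S) ?_
  refine congrArg (fun c => c % t) ?_
  exact Nat.card_congr
      { toFun := fun x => ⟨(x.1 : E), x.1.2,
          congrArg Subtype.val (x.2 ⟨a, Subgroup.mem_zpowers a⟩)⟩
        invFun := fun x => ⟨⟨(x : E), x.2.1⟩, fun g => Subtype.ext (by
          show (g : D) • (x : E) = x
          have h : (g : D) ∈ MulAction.stabilizer D (x : E) :=
            (Subgroup.zpowers_le.2 (MulAction.mem_stabilizer_iff.2 x.2.2)) g.2
          exact h)⟩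
        left_inv := fun x => rfl
        right_inv := fun x => rfl }

/-- A normal subgroup fixing a nonzero vector is trivial. -/
theorem eq_bot_of_normal_fix [FaithfulSMul D E]
    (htrans : ∀ a b : E, a ≠ 0 → b ≠ 0 → ∃ d : D, d • a = b) {K : Subgroup D} (hK : K.Normal)
    {v : E} (hv : v ≠ 0) (h : ∀ k ∈ K, k • v = v) : K = ⊥ := by
  refine (Subgroup.eq_bot_iff_forall _).2 fun k hk => eq_of_smul_eq_smul (α := E) fun e => ?_
  rw [one_smul]
  by_cases he : e = 0
  · rw [he, smul_zero]
  obtain ⟨d, rfl⟩ := htrans v e hv he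
  have h1 := h _ (hK.conj_mem k hk d⁻¹)
  rw [inv_inv, mul_smul, mul_smul] at h1
  exact inv_smul_eq_iff.1 h1

/-- An element acting irreducibly. -/
def Irred (E : Type*) [AddCommGroup E] [DistribMulAction D E] (x : D) : Prop :=
  ∀ U : AddSubgroup E, (∀ u ∈ U, x • u ∈ U) → U = ⊥ ∨ U = ⊤

/-- The centraliser of an element acting irreducibly is cyclic. -/
theorem isCyclic_of_irred [FaithfulSMul D E] [Nontrivial E] {x : D} (hx : Irred E x)
    {H : Subgroup D} (hH : ∀ h ∈ H, h * x = x * h) : IsCyclic H := by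
  classical
  let R : Subring (AddMonoid.End E) :=
    Subring.centralizer {DistribMulAction.toAddMonoidEnd D E x}
  haveI : Finite (AddMonoid.End E) := Finite.of_injective (fun f => (f : E → E)) DFunLike.coe_injective
  have hinj : ∀ s : R, s ≠ 0 → ∀ u : E, (s : AddMonoid.End E) u = 0 → u = 0 := by
    intro s hs u hu
    let k : E →+ E := (s : AddMonoid.End E)
    have hinv : ∀ w ∈ k.ker, x • w ∈ k.ker := by
      intro w hw
      rw [AddMonoidHom.mem_ker] at hw ⊢
      change (s : AddMonoid.End E) w = 0 at hw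
      show (s : AddMonoid.End E) (x • w) = 0
      have h := DFunLike.congr_fun (Subring.mem_centralizer_iff.1 s.2 _ rfl) w
      change x • ((s : AddMonoid.End E) w) = (s : AddMonoid.End E) (x • w) at h
      rw [← h, hw, smul_zero]
    rcases hx _ hinv with h | h
    · exact (AddSubgroup.eq_bot_iff_forall _).1 h u (AddMonoidHom.mem_ker.2 hu)
    · refine absurd ?_ hs
      refine Subtype.ext (AddMonoidHom.ext fun w => ?_)
      exact AddMonoidHom.mem_ker.1 (h.symm ▸ AddSubgroup.mem_top w)
  haveI : Nontrivial R := ⟨0, 1, fun h => by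
    obtain ⟨e, he⟩ := exists_ne (0 : E)
    exact he (DFunLike.congr_fun (congrArg Subtype.val h) e).symm⟩
  haveI : NoZeroDivisors R := ⟨fun {s s'} h => by
    by_cases hs : s = 0
    · exact Or.inl hs
    refine Or.inr (Subtype.ext (AddMonoidHom.ext fun w => hinj s hs _ ?_))
    exact DFunLike.congr_fun (congrArg Subtype.val h) w⟩
  haveI : IsDomain R := NoZeroDivisors.to_isDomain R
  letI : CommRing R := { (inferInstance : Ring R) with
    mul_comm := (Finite.isDomain_to_isField R).mul_comm }
  haveI : IsDomain R := NoZeroDivisors.to_isDomain R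
  let f : H →* R :=
    { toFun := fun h => ⟨DistribMulAction.toAddMonoidEnd D E h,
        Subring.mem_centralizer_iff.2 fun g hg => by
          rw [Set.mem_singleton_iff.1 hg, ← map_mul, ← map_mul, hH h h.2]⟩
      map_one' := Subtype.ext (map_one _)
      map_mul' := fun a b => Subtype.ext (map_mul _ _ _) }
  refine isCyclic_of_injective_ringHom f fun a b hab => ?_
  refine Subtype.ext (eq_of_smul_eq_smul (α := E) fun e => ?_)
  exact DFunLike.congr_fun (congrArg Subtype.val hab) e

/-- Elements of bounded order in a cyclic group. -/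
theorem mem_zpowers_of_isCyclic {H : Subgroup D} [IsCyclic H] {x y : D} (hxH : x ∈ H) (hyH : y ∈ H)
    {t : ℕ} (ht : 0 < t) (hx : orderOf x = t) (hy : y ^ t = 1) : y ∈ Subgroup.zpowers x := by
  classical
  haveI : Fintype H := Fintype.ofFinite _
  haveI : Fintype (Subgroup.zpowers (⟨x, hxH⟩ : H)) := Fintype.ofFinite _
  let S := (Subgroup.zpowers (⟨x, hxH⟩ : H) : Set H).toFinset
  have hsub : S ⊆ Finset.univ.filter fun a : H => a ^ t = 1 := by
    intro a ha
    refine Finset.mem_filter.2 ⟨Finset.mem_univ _, ?_⟩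
    obtain ⟨i, rfl⟩ := Set.mem_toFinset.1 ha
    rw [← zpow_natCast, ← zpow_mul, mul_comm, zpow_mul, zpow_natCast,
      show (⟨x, hxH⟩ : H) ^ t = 1 from Subtype.ext (hx ▸ pow_orderOf_eq_one x), one_zpow]
  have hcard : S.card = t := by
    rw [Set.toFinset_card, ← Nat.card_eq_fintype_card]
    exact (Nat.card_zpowers _).trans (by rw [Subgroup.orderOf_mk, hx])
  have h := Finset.eq_of_subset_of_card_le hsub ((IsCyclic.card_pow_eq_one_le ht).trans hcard.ge)
  have h1 : (⟨y, hyH⟩ : H) ∈ S := h.symm ▸ Finset.mem_filter.2 ⟨Finset.mem_univ _, Subtype.ext hy⟩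
  obtain ⟨i, hi⟩ := Set.mem_toFinset.1 h1
  exact ⟨i, congrArg Subtype.val hi⟩

/-- The conclusion from a normal subgroup of prime order with cyclic centraliser. -/
theorem core [FaithfulSMul D E]
    (htrans : ∀ a b : E, a ≠ 0 → b ≠ 0 → ∃ d : D, d • a = b) {z : D} {t : ℕ} (ht : t.Prime)
    (hz : orderOf z = t) (hzn : (Subgroup.zpowers z).Normal)
    (hC : IsCyclic (Subgroup.centralizer {z} : Subgroup D))
    (hT : ∀ g : D, (∃ k, orderOf g = t ^ k) → g * z = z * g) :
    IsCyclic ↥(Cfsg.fittingSubgroup D) ∧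
      (∀ g ∈ Cfsg.fittingSubgroup D, g ≠ 1 → ∀ a : E, g • a = a → a = 0) ∧
      commutator D ≤ Cfsg.fittingSubgroup D := by
  set C : Subgroup D := Subgroup.centralizer {z} with hCdef
  haveI := Fact.mk ht
  have hCz : C = Subgroup.centralizer (Subgroup.zpowers z : Set D) := by
    rw [hCdef, Subgroup.zpowers_eq_closure, Subgroup.centralizer_closure]
  haveI := hzn
  haveI hCn : C.Normal := hCz ▸ Subgroup.normal_centralizer
  haveI : Group.IsNilpotent C := by
    letI : CommGroup C := IsCyclic.commGroup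
    exact CommGroup.isNilpotent
  have hCF : C ≤ Cfsg.fittingSubgroup D := FittingCores.le_fitting hCn inferInstance
  have hconj : ∀ g : D, ∃ i : ℤ, g * z * g⁻¹ = z ^ i := fun g => by
    obtain ⟨i, hi⟩ := hzn.conj_mem z (Subgroup.mem_zpowers z) g
    exact ⟨i, hi.symm⟩
  have hder : commutator D ≤ C := by
    rw [commutator_def, Subgroup.commutator_le]
    intro a _ b _
    obtain ⟨i, hi⟩ := hconj a
    obtain ⟨j, hj⟩ := hconj b
    obtain ⟨i', hi'⟩ := hconj a⁻¹
    obtain ⟨j', hj'⟩ := hconj b⁻¹
    have hpow : ∀ (g : D) (m l : ℤ), g * z * g⁻¹ = z ^ m → g * z ^ l * g⁻¹ = z ^ (m * l) := by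
      intro g m l h
      rw [zpow_mul, ← h, conj_zpow]
    have hcancel : ∀ (g : D) (m m' : ℤ), g * z * g⁻¹ = z ^ m → g⁻¹ * z * g⁻¹⁻¹ = z ^ m' →
        z ^ (m * m') = z := by
      intro g m m' h h'
      rw [← hpow g m m' h, ← h']
      group
    have h1 : ⁅a, b⁆ * z * ⁅a, b⁆⁻¹ = z := by
      calc ⁅a, b⁆ * z * ⁅a, b⁆⁻¹ =
          a * (b * (a⁻¹ * (b⁻¹ * z * b⁻¹⁻¹) * a⁻¹⁻¹) * b⁻¹) * a⁻¹ := by
            rw [commutatorElement_def]; group
        _ = z ^ (i * (j * (i' * j'))) := by
            rw [hj', hpow _ _ _ hi', hpow _ _ _ hj, hpow _ _ _ hi]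
        _ = z := by
            rw [show i * (j * (i' * j')) = (i * i') * (j * j') by ring, zpow_mul,
              hcancel a i i' hi hi', hcancel b j j' hj hj']
    exact Subgroup.mem_centralizer_singleton_iff.2 (mul_inv_eq_iff_eq_mul.1 h1)
  have hFC : Cfsg.fittingSubgroup D ≤ C := by
    rw [FittingCores.fitting_eq_iSup_pCore]
    refine iSup_le fun q => fun g hg => ?_
    obtain ⟨p, hpf⟩ := q
    haveI := Fact.mk hpf
    refine Subgroup.mem_centralizer_singleton_iff.2 ?_
    obtain ⟨k, hk⟩ := IsPGroup.iff_orderOf.1 (FittingCores.pCore_isPGroup (G := D) p) ⟨g, hg⟩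
    rw [Subgroup.orderOf_mk] at hk
    by_cases hpt : p = t
    · exact hT g ⟨k, hpt ▸ hk⟩
    · refine Subgroup.commute_of_normal_of_disjoint _ _ (FittingCores.pCore_normal p) hzn ?_ g z hg
        (Subgroup.mem_zpowers z)
      refine IsPGroup.disjoint_of_ne p t hpt _ _ (FittingCores.pCore_isPGroup p) ?_
      exact IsPGroup.of_card (n := 1) (by rw [Nat.card_zpowers, hz, pow_one])
  have hFeq : Cfsg.fittingSubgroup D = C := le_antisymm hFC hCF
  rw [hFeq]
  refine ⟨hC, fun g hg hg1 e he => ?_, hder⟩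
  by_contra he0
  haveI : (Subgroup.zpowers g).Normal := by
    refine ⟨fun k hk d => ?_⟩
    have hkC : k ∈ C := (Subgroup.zpowers_le.2 hg) hk
    have hk1 : (d * k * d⁻¹) ^ orderOf g = 1 := by
      obtain ⟨i, rfl⟩ := hk
      rw [conj_pow, ← zpow_natCast, ← zpow_mul, mul_comm, zpow_mul, zpow_natCast,
        pow_orderOf_eq_one, one_zpow, mul_one, mul_inv_cancel]
    exact mem_zpowers_of_isCyclic hg (hCn.conj_mem k hkC d) (orderOf_pos g) rfl hk1
  have h := eq_bot_of_normal_fix htrans (K := Subgroup.zpowers g) inferInstance he0 fun k hk =>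
    (Subgroup.zpowers_le.2 (MulAction.mem_stabilizer_iff.2 he)) hk
  exact hg1 (Subgroup.zpowers_eq_bot.1 h)

end Cfsg.Agent.TransLinear
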