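/-
The degrees of the constituents of a character of a group of odd order invariant under squaring.
-/
import Cfsg.Agent.Lib.Char.Galois
import Cfsg.Agent.Lib.Char.Complete
import Cfsg.Agent.Lib.Char.Clifford
import Cfsg.Agent.Lib.Char.Degree
import Cfsg.Agent.Lib.Char.PermChar
import Cfsg.Agent.Lib.DefOne.SylowOdd

set_option autoImplicit false
set_option linter.unusedSectionVars false
set_option linter.style.haveILetI false

namespace Cfsg.Agent.TransLinear

open Cfsg Cfsg.Agent.Char
open scoped ComplexConjugate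

universe u

variable {G : Type u} [Group G] [Fintype G]

/-- The square of an irreducible character. -/
noncomputable def sqChar (hodd : Odd (Nat.card G)) (η : IrrCharacter G) : IrrCharacter G :=
  ⟨fun g => (η : G → ℂ) (g ^ 2),
    CharGalois.IsIrrCharacter.powMap η.2 (Nat.coprime_two_left.2 hodd)⟩

theorem charDegree_sqChar (hodd : Odd (Nat.card G)) (η : IrrCharacter G) :
    charDegree (sqChar hodd η : G → ℂ) = charDegree (η : G → ℂ) := by
  simp [charDegree, sqChar]

variable {χ : G → ℂ}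

theorem classInner_sqChar (hodd : Odd (Nat.card G)) (hsq : ∀ g, χ (g ^ 2) = χ g)
    (η : IrrCharacter G) :
    classInner χ (sqChar hodd η : G → ℂ) = classInner χ (η : G → ℂ) := by
  rw [classInner, classInner]
  congr 1
  refine Fintype.sum_bijective (fun g : G => g ^ 2)
    ((powCoprime (Nat.coprime_two_right.2 hodd)).bijective) _ _ fun g => ?_
  rw [hsq]
  rfl

/-- Two different constituents. -/
theorem degree_add_le (hχ : IsCharacter G χ) {n : ℕ} (hn : χ 1 = n) {η η' : IrrCharacter G}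
    (hne : η ≠ η') (h : classInner χ (η : G → ℂ) ≠ 0) (h' : classInner χ (η' : G → ℂ) ≠ 0) :
    charDegree (η : G → ℂ) + charDegree (η' : G → ℂ) ≤ n := by
  classical
  obtain ⟨m, hm⟩ := IsCharacter.exists_decomp hχ
  rw [hm, classInner_combination, Nat.cast_ne_zero] at h h'
  have hdeg : ∑ ψ : IrrCharacter G, m ψ * charDegree (ψ : G → ℂ) = n := by
    have h1 := congrFun hm 1
    simp only [Finset.sum_apply, Pi.smul_apply, smul_eq_mul, CharX.irr_deg, hn] at h1
    exact_mod_cast h1.symm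
  rw [← hdeg]
  refine le_trans ?_ (Finset.sum_le_sum_of_subset (Finset.subset_univ {η, η'}))
  rw [Finset.sum_pair hne]
  exact add_le_add (Nat.le_mul_of_pos_left _ (Nat.pos_of_ne_zero h))
    (Nat.le_mul_of_pos_left _ (Nat.pos_of_ne_zero h'))

/-- A large constituent is invariant under squaring. -/
theorem sqChar_eq_of_large (hodd : Odd (Nat.card G)) (hχ : IsCharacter G χ) {n : ℕ} (hn : χ 1 = n)
    (hsq : ∀ g, χ (g ^ 2) = χ g) {η : IrrCharacter G} (h : classInner χ (η : G → ℂ) ≠ 0)
    (hlarge : n < 2 * charDegree (η : G → ℂ)) : sqChar hodd η = η := by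
  by_contra hne
  have h1 := degree_add_le hχ hn hne ((classInner_sqChar hodd hsq η).symm ▸ h) h
  rw [charDegree_sqChar] at h1
  omega

/-- The sum over a cyclic subgroup. -/
theorem sum_powers_eq_zero (hχ : IsCharacter G χ) {a : G} {t : ℕ} (hat : orderOf a = t)
    (h0 : ∑ k ∈ Finset.range t, χ (a ^ k) = 0) {η : IrrCharacter G}
    (h : classInner χ (η : G → ℂ) ≠ 0) : ∑ k ∈ Finset.range t, (η : G → ℂ) (a ^ k) = 0 := by
  classical
  subst hat
  obtain ⟨m, hm⟩ := IsCharacter.exists_decomp hχ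
  rw [hm, classInner_combination, Nat.cast_ne_zero] at h
  haveI : Fintype (Subgroup.zpowers a) := Fintype.ofFinite _
  have hnat : ∀ ψ : IrrCharacter G, ∃ c : ℕ,
      ∑ k ∈ Finset.range (orderOf a), (ψ : G → ℂ) (a ^ k) = c := by
    intro ψ
    obtain ⟨c, hc⟩ := IsCharacter.exists_classInner_nat
      (IsCharacter.restrict (IsIrrCharacter.isCharacter ψ.2) (Subgroup.zpowers a))
      (isCharacter_one (G := Subgroup.zpowers a))
    rw [classInner, inv_mul_eq_iff_eq_mul₀ (Nat.cast_ne_zero.2 Nat.card_pos.ne')] at hc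
    simp only [map_one, mul_one] at hc
    refine ⟨Nat.card (Subgroup.zpowers a) * c, ?_⟩
    push_cast
    rw [← hc, Finset.sum_range fun k => (ψ : G → ℂ) (a ^ k)]
    exact Fintype.sum_equiv (finEquivZPowers (isOfFinOrder_of_finite a)) _ _ fun k => rfl
  choose c hc using hnat
  have hsum : ∑ ψ : IrrCharacter G, m ψ * c ψ = 0 := by
    have h1 : ∑ k ∈ Finset.range (orderOf a), χ (a ^ k) =
        ((∑ ψ : IrrCharacter G, m ψ * c ψ : ℕ) : ℂ) := by
      rw [hm]
      simp only [Finset.sum_apply, Pi.smul_apply, smul_eq_mul]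
      rw [Finset.sum_comm]
      push_cast
      exact Finset.sum_congr rfl fun ψ _ => by rw [← Finset.mul_sum, hc]
    rw [h0] at h1
    exact_mod_cast h1.symm
  rw [hc, (Nat.mul_eq_zero.1 (Finset.sum_eq_zero_iff.1 hsum η (Finset.mem_univ _))).resolve_left h,
    Nat.cast_zero]

/-- Even degree: the constituents have at most half the degree. -/
theorem degree_le_half (hodd : Odd (Nat.card G)) (hχ : IsCharacter G χ) {n : ℕ} (hn : χ 1 = n)
    (hsq : ∀ g, χ (g ^ 2) = χ g) {a : G} {t h : ℕ} (hat : orderOf a = t)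
    (hneg : t ∣ 2 ^ h + 1) (h0 : ∑ k ∈ Finset.range t, χ (a ^ k) = 0) {η : IrrCharacter G}
    (hη : classInner χ (η : G → ℂ) ≠ 0) : 2 * charDegree (η : G → ℂ) ≤ n := by
  by_contra hlarge
  have hfix : ∀ g, (η : G → ℂ) (g ^ 2) = (η : G → ℂ) g := fun g =>
    congrFun (congrArg Subtype.val (sqChar_eq_of_large hodd hχ hn hsq hη (by omega))) g
  have hpow : ∀ (i : ℕ) g, (η : G → ℂ) (g ^ 2 ^ i) = (η : G → ℂ) g := by
    intro i
    induction i with
    | zero => intro g; rw [pow_zero, pow_one]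
    | succ i ih => intro g; rw [pow_succ, pow_mul, hfix, ih]
  have hto : Odd t := hodd.of_dvd_nat (hat ▸ orderOf_dvd_natCard a)
  obtain ⟨s, hs⟩ := hto
  have hinv : ∀ k, (η : G → ℂ) (a ^ k) = (η : G → ℂ) ((a ^ k)⁻¹) := fun k => by
    rw [← hpow h (a ^ k)]
    refine congrArg (η : G → ℂ) ?_
    rw [eq_inv_iff_mul_eq_one, ← pow_succ, ← pow_mul, ← orderOf_dvd_iff_pow_eq_one, hat]
    exact hneg.mul_left k
  have h1 := sum_powers_eq_zero hχ hat h0 hη
  rw [hs, Finset.sum_range_succ' , pow_zero, CharX.irr_deg, two_mul, Finset.sum_range_add] at h1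
  have h2 : ∑ k ∈ Finset.range s, (η : G → ℂ) (a ^ (s + k + 1)) =
      ∑ k ∈ Finset.range s, (η : G → ℂ) (a ^ (k + 1)) := by
    rw [← Finset.sum_range_reflect]
    refine Finset.sum_congr rfl fun k hk => ?_
    rw [hinv (k + 1)]
    refine congrArg (η : G → ℂ) ?_
    rw [eq_inv_iff_mul_eq_one, ← pow_add]
    have hk' := Finset.mem_range.1 hk
    rw [show s + (s - 1 - k) + 1 + (k + 1) = orderOf a by omega, pow_orderOf_eq_one]
  rw [h2] at h1
  -- the degree would be twice an algebraic integer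
  set S := ∑ k ∈ Finset.range s, (η : G → ℂ) (a ^ (k + 1))
  have hint : IsIntegral ℤ S := IsIntegral.sum _ fun k _ =>
    IsCharacter.isIntegral (IsIrrCharacter.isCharacter η.2) _
  obtain ⟨d, hd⟩ : Odd (charDegree (η : G → ℂ)) :=
    hodd.of_dvd_nat (DefOne.deg_dvd_card η)
  rw [hd] at h1
  push_cast at h1
  have hhalf : IsIntegral ℤ ((1 : ℂ) / 2) := by
    have h3 : IsIntegral ℤ (-S - (d : ℂ)) := hint.neg.sub (isIntegral_natCast d)
    rwa [show -S - (d : ℂ) = 1 / 2 by linear_combination (-1 / 2 : ℂ) * h1] at h3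
  have h4 : IsIntegral ℤ ((1 / 2 : ℚ)) := by
    rw [← isIntegral_algebraMap_iff (algebraMap ℚ ℂ).injective]
    simpa using hhalf
  obtain ⟨z, hz⟩ := IsIntegrallyClosed.isIntegral_iff.1 h4
  have h5 : (2 * z : ℤ) = 1 := by
    rw [eq_intCast] at hz
    have h6 : (2 : ℚ) * (z : ℚ) = 1 := by rw [hz]; norm_num
    exact_mod_cast h6
  omega

/-- Degree six. -/
theorem degree_le_three (hodd : Odd (Nat.card G)) (hχ : IsCharacter G χ) (hn : χ 1 = (6 : ℕ))
    (hsq : ∀ g, χ (g ^ 2) = χ g) (h1 : classInner χ (fun _ => 1) ≠ 1) {η : IrrCharacter G}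
    (hη : classInner χ (η : G → ℂ) ≠ 0) : charDegree (η : G → ℂ) ≤ 3 := by
  classical
  by_contra hlarge
  obtain ⟨m, hm⟩ := IsCharacter.exists_decomp hχ
  have hmη : m η ≠ 0 := by
    rw [hm, classInner_combination, Nat.cast_ne_zero] at hη
    exact hη
  have hdeg : ∑ ψ : IrrCharacter G, m ψ * charDegree (ψ : G → ℂ) = 6 := by
    have h := congrFun hm 1
    simp only [Finset.sum_apply, Pi.smul_apply, smul_eq_mul, CharX.irr_deg, hn] at h
    exact_mod_cast h.symm
  rw [← Finset.add_sum_erase _ _ (Finset.mem_univ η)] at hdeg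
  obtain ⟨d, hd⟩ : Odd (charDegree (η : G → ℂ)) := hodd.of_dvd_nat (DefOne.deg_dvd_card η)
  rw [hd] at hdeg hlarge
  have hm1 : m η = 1 := by
    by_contra hne
    have h5 : 2 * (2 * d + 1) ≤ m η * (2 * d + 1) := Nat.mul_le_mul_right _ (by omega)
    omega
  rw [hm1, one_mul] at hdeg
  have hrest : ∑ ψ ∈ (Finset.univ : Finset (IrrCharacter G)).erase η,
      m ψ * charDegree (ψ : G → ℂ) = 1 := by omega
  obtain ⟨θ, hθ, hθ0⟩ := Finset.exists_ne_zero_of_sum_ne_zero
    (by rw [hrest]; exact one_ne_zero : ∑ ψ ∈ (Finset.univ : Finset (IrrCharacter G)).erase η,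
      m ψ * charDegree (ψ : G → ℂ) ≠ 0)
  have hsingle : ∀ ψ, ψ ∈ (Finset.univ : Finset (IrrCharacter G)).erase η →
      m ψ * charDegree (ψ : G → ℂ) ≠ 0 → ψ = θ ∧ m ψ = 1 ∧ charDegree (ψ : G → ℂ) = 1 := by
    intro ψ hψ hψ0
    have hle := Finset.single_le_sum
      (f := fun ψ : IrrCharacter G => m ψ * charDegree (ψ : G → ℂ))
      (fun _ _ => Nat.zero_le _) hψ
    rw [hrest] at hle
    have h2 := Nat.eq_one_of_mul_eq_one_right (show m ψ * charDegree (ψ : G → ℂ) = 1 by omega)
    have h3 := Nat.eq_one_of_mul_eq_one_left (show m ψ * charDegree (ψ : G → ℂ) = 1 by omega)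
    refine ⟨?_, h2, h3⟩
    by_contra hne
    have h4 := Finset.sum_le_sum_of_subset (s := ({ψ, θ} : Finset (IrrCharacter G)))
      (f := fun ψ : IrrCharacter G => m ψ * charDegree (ψ : G → ℂ))
      (t := (Finset.univ : Finset (IrrCharacter G)).erase η) (by
        intro x hx
        rcases Finset.mem_insert.1 hx with rfl | hx
        · exact hψ
        · rw [Finset.mem_singleton.1 hx]; exact hθ)
    rw [Finset.sum_pair hne, hrest] at h4
    omega
  obtain ⟨-, hmθ, hdθ⟩ := hsingle θ hθ hθ0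
  have hsqθ : sqChar hodd θ = θ := by
    have hne : sqChar hodd θ ≠ η := fun h => by
      have h' := charDegree_sqChar hodd θ
      rw [h, hd, hdθ] at h'
      omega
    refine (hsingle _ (Finset.mem_erase.2 ⟨hne, Finset.mem_univ _⟩) ?_).1
    rw [charDegree_sqChar, hdθ, mul_one]
    have h' := classInner_sqChar hodd hsq θ
    rw [hm, classInner_combination, classInner_combination] at h'
    rw [Nat.cast_injective h', hmθ]
    exact one_ne_zero
  obtain ⟨f, hf⟩ := exists_hom_of_degree_one (IsIrrCharacter.isCharacter θ.2)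
    (by rw [CharX.irr_deg, hdθ, Nat.cast_one])
  have hone : (θ : G → ℂ) = fun _ => 1 := by
    funext g
    have h' := congrFun (congrArg Subtype.val hsqθ) g
    simp only [sqChar, hf, map_pow, Units.val_pow_eq_pow_val] at h' ⊢
    have h'' : (f g : ℂ) * (f g : ℂ) = (f g : ℂ) * 1 := by rw [← sq, h', mul_one]
    exact mul_left_cancel₀ (f g).ne_zero h''
  refine h1 ?_
  rw [← hone, hm, classInner_combination, hmθ, Nat.cast_one]

end Cfsg.Agent.TransLinear
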