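/-
The lift to the complex numbers of a representation over the field of two elements of a group of
odd order: its invariance under squaring and its restriction to cyclic subgroups.
-/
import Cfsg.Agent.Lib.BrauerChar.Virtual
import Cfsg.Agent.Lib.Blocks.RegTrExact
import Cfsg.Agent.Lib.Blocks.RobinsonRank
import Cfsg.Agent.Lib.Char.Galois
import Cfsg.Agent.Lib.Char.Degree
import Cfsg.Agent.Lib.Char.PermChar

set_option linter.unusedSectionVars false
set_option linter.style.haveILetI false

namespace Cfsg.Agent.TransLinear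

open Cfsg MonoidAlgebra Cfsg.Agent.Blocks Cfsg.Agent.BrauerPairs Cfsg.Agent.BrauerChar
open scoped ComplexConjugate

universe u

/-- A periodic sum may be reindexed by a multiplier prime to the period. -/
theorem sum_range_mul_coprime {A : Type*} [AddCommMonoid A] {m k : ℕ} (hk : k.Coprime m)
    (hm : 0 < m) (g : ℕ → A) (hg : ∀ i, g (i % m) = g i) :
    ∑ i ∈ Finset.range m, g (k * i) = ∑ i ∈ Finset.range m, g i := by
  have hinj : Set.InjOn (fun i => k * i % m) (Finset.range m : Set ℕ) := by
    intro a ha b hb hab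
    simp only [Finset.coe_range, Set.mem_Iio] at ha hb
    exact (Nat.ModEq.cancel_left_of_coprime hk.symm hab).eq_of_lt_of_lt ha hb
  refine Finset.sum_nbij (fun i => k * i % m)
    (fun i _ => Finset.mem_range.2 (Nat.mod_lt _ hm)) hinj
    (Finset.surjOn_of_injOn_of_card_le _
      (fun i _ => Finset.mem_range.2 (Nat.mod_lt _ hm)) hinj le_rfl) fun i _ => (hg _).symm

/-- A periodic sum may be shifted. -/
theorem sum_range_add_periodic {A : Type*} [AddCommMonoid A] {m : ℕ}
    (hm : 0 < m) (g : ℕ → A) (hg : ∀ i, g (i % m) = g i) (a : ℕ) :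
    ∑ i ∈ Finset.range m, g (a + i) = ∑ i ∈ Finset.range m, g i := by
  have hinj : Set.InjOn (fun i => (a + i) % m) (Finset.range m : Set ℕ) := by
    intro x hx y hy hxy
    simp only [Finset.coe_range, Set.mem_Iio] at hx hy
    exact (Nat.ModEq.add_left_cancel' a hxy).eq_of_lt_of_lt hx hy
  refine Finset.sum_nbij (fun i => (a + i) % m)
    (fun i _ => Finset.mem_range.2 (Nat.mod_lt _ hm)) hinj
    (Finset.surjOn_of_injOn_of_card_le _
      (fun i _ => Finset.mem_range.2 (Nat.mod_lt _ hm)) hinj le_rfl) fun i _ => (hg _).symm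

/-- A sum of powers of a primitive root. -/
theorem sum_pow_mul {R : Type*} [CommRing R] [IsDomain R] {ζ : R} {m d : ℕ}
    (h : IsPrimitiveRoot ζ m) (hd : ¬ m ∣ d) : ∑ i ∈ Finset.range m, ζ ^ (i * d) = 0 := by
  have h1 : ζ ^ d ≠ 1 := fun h' => hd (h.dvd_of_pow_eq_one d h')
  refine mul_right_cancel₀ (sub_ne_zero.2 h1) ?_
  rw [zero_mul, Finset.sum_congr rfl fun i _ => show ζ ^ (i * d) = (ζ ^ d) ^ i by
      rw [← pow_mul, mul_comm], geom_sum_mul, ← pow_mul, mul_comm, pow_mul, h.pow_eq_one,
    one_pow, sub_self]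

variable {G : Type u} [Group G] [Fintype G] {M : Ideal AlgInt} [M.IsPrime]

theorem not_two_dvd (hodd : Odd (Nat.card G)) (a : G) : ¬ 2 ∣ orderOf a := fun h =>
  Nat.not_even_iff_odd.2 hodd (even_iff_two_dvd.2 (h.trans (orderOf_dvd_natCard a)))

section Residue

variable [CharP (resField M) 2]

/-- The inverse root of unity in the residue field. -/
noncomputable def eta (M : Ideal AlgInt) [M.IsPrime] (m : ℕ) : resField M :=
  res M (zetaR M m ^ (m - 1))

theorem eta_pow_mod {m : ℕ} (hm : 0 < m) (i : ℕ) : eta M m ^ (i % m) = eta M m ^ i := by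
  have h : eta M m ^ m = 1 := by
    rw [eta, ← map_pow, ← pow_mul, mul_comm, pow_mul, (isPrimitiveRoot_zetaR hm).pow_eq_one,
      one_pow, map_one]
  conv_rhs => rw [← Nat.mod_add_div i m, pow_add, pow_mul, h, one_pow, mul_one]

theorem eta_mul_mod {m : ℕ} (hm : 0 < m) (i j : ℕ) :
    eta M m ^ ((i % m) * j) = eta M m ^ (i * j) := by
  rw [pow_mul, eta_pow_mod hm, ← pow_mul]

theorem sum_eta {m d : ℕ} (hm : 0 < m) (hd : ¬ m ∣ d) :
    ∑ i ∈ Finset.range m, eta M m ^ (i * d) = 0 := by
  have h : IsPrimitiveRoot (zetaR M m ^ (m - 1)) m := by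
    refine (isPrimitiveRoot_zetaR hm).pow_of_coprime _ ?_
    have h1 : (m - 1) + 1 = m := Nat.succ_pred_eq_of_pos hm
    nth_rw 2 [← h1]
    exact Nat.coprime_self_add_right.2 (Nat.coprime_one_right _)
  have h2 := congrArg (res M) (sum_pow_mul h hd)
  rw [map_sum, map_zero] at h2
  simpa only [eta, map_pow] using h2

theorem natCast_eq_one {m : ℕ} (hm : ¬ 2 ∣ m) : (m : resField M) = 1 := by
  obtain ⟨a, rfl⟩ : Odd m := Nat.not_even_iff_odd.1 fun h => hm (even_iff_two_dvd.1 h)
  rw [Nat.cast_add, Nat.cast_mul, Nat.cast_ofNat, CharTwo.two_eq_zero, zero_mul, zero_add,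
    Nat.cast_one]

theorem eigK_eq (hM : IsPModular 2 M) {a : G} (ha : ¬ 2 ∣ orderOf a) (j : ℕ) :
    eigK M a j = ∑ i ∈ Finset.range (orderOf a),
      MonoidAlgebra.single (a ^ i) (eta M (orderOf a) ^ (i * j)) := by
  classical
  have hinv : res M (invR M (orderOf a)) = 1 := by
    have h := congrArg (res M) (invR_mul hM ha)
    rwa [map_mul, map_natCast, natCast_eq_one ha, mul_one, map_one] at h
  rw [eigK, eigR, resG_smul, map_sum, hinv, one_smul]
  refine Finset.sum_congr rfl fun i _ => gaExt fun b => ?_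
  simp [coeff_resG, Finsupp.single_apply, apply_ite (res M), eta, map_pow]

theorem eigK_periodic (hM : IsPModular 2 M) {a : G} (ha : ¬ 2 ∣ orderOf a) (j : ℕ) :
    eigK M a (j % orderOf a) = eigK M a j := by
  rw [eigK_eq hM ha, eigK_eq hM ha]
  refine Finset.sum_congr rfl fun i _ => ?_
  rw [mul_comm i (j % _), eta_mul_mod (orderOf_pos a), mul_comm j i]

theorem eigK_pow (hM : IsPModular 2 M) {a : G} (ha : ¬ 2 ∣ orderOf a) {k : ℕ}
    (hk : k.Coprime (orderOf a)) (j : ℕ) : eigK M (a ^ k) (k * j) = eigK M a j := by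
  have ho : orderOf (a ^ k) = orderOf a := Nat.Coprime.orderOf_pow hk.symm
  rw [eigK_eq hM (ho ▸ ha), eigK_eq hM ha, ho]
  refine Eq.trans (Finset.sum_congr rfl fun i _ => ?_) (sum_range_mul_coprime hk (orderOf_pos a)
    (fun i => MonoidAlgebra.single (a ^ i) (eta M (orderOf a) ^ (i * j))) fun i => ?_)
  · rw [← pow_mul, show i * (k * j) = k * i * j by ring]
  · simp only [pow_mod_orderOf, eta_mul_mod (orderOf_pos a)]

theorem eigK_mul_eigK (hM : IsPModular 2 M) {a : G} (ha : ¬ 2 ∣ orderOf a) {i j : ℕ}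
    (hi : i < orderOf a) (hj : j < orderOf a) (hij : i ≠ j) :
    eigK M a i * eigK M a j = 0 := by
  have hm := orderOf_pos a
  set m := orderOf a with hmdef
  rw [eigK_eq hM ha, eigK_eq hM ha, ← hmdef, Finset.sum_mul]
  set S := ∑ b ∈ Finset.range m, MonoidAlgebra.single (a ^ b) (eta M m ^ (b * j)) with hS
  have hstep : ∀ c : ℕ, MonoidAlgebra.single (a ^ c) (eta M m ^ (c * i)) * S =
      eta M m ^ (c * (i + j * (m - 1))) • S := by
    intro c
    rw [hS, Finset.mul_sum]
    conv_rhs => rw [← sum_range_add_periodic hm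
      (fun b => MonoidAlgebra.single (a ^ b) (eta M m ^ (b * j)))
      (fun b => by simp only [hmdef, pow_mod_orderOf, eta_mul_mod (orderOf_pos a)]) c,
      Finset.smul_sum]
    refine Finset.sum_congr rfl fun b _ => ?_
    rw [MonoidAlgebra.single_mul_single, ← pow_add, MonoidAlgebra.smul_single, smul_eq_mul,
      ← pow_add, ← pow_add, ← eta_pow_mod hm (c * (i + j * (m - 1)) + (c + b) * j)]
    have h1 : c * (i + j * (m - 1)) + (c + b) * j = c * i + b * j + m * (c * j) := by
      obtain ⟨d, hd⟩ : ∃ d, m = d + 1 := ⟨m - 1, (Nat.succ_pred_eq_of_pos hm).symm⟩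
      rw [hd, Nat.add_sub_cancel]
      ring
    rw [h1, Nat.add_mul_mod_self_left, eta_pow_mod hm]
  rw [Finset.sum_congr rfl fun c _ => hstep c, ← Finset.sum_smul,
    sum_eta hm (d := i + j * (m - 1)) ?_, zero_smul]
  intro h
  refine hij ?_
  obtain ⟨d, hd⟩ : ∃ d, m = d + 1 := ⟨m - 1, (Nat.succ_pred_eq_of_pos hm).symm⟩
  rw [hd, Nat.add_sub_cancel] at h
  obtain ⟨c, hc⟩ := h
  have hc1 : (d + 1 : ℤ) ∣ (i : ℤ) - j := ⟨(c : ℤ) - j, by
    have h' : (i : ℤ) + j * d = (d + 1) * c := by exact_mod_cast hc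
    linear_combination h'⟩
  have h0 := Int.eq_zero_of_abs_lt_dvd hc1 (abs_lt.2 ⟨by omega, by omega⟩)
  omega

theorem sum_eigK_one (hM : IsPModular 2 M) {a : G} (ha : ¬ 2 ∣ orderOf a) :
    ∑ j ∈ Finset.range (orderOf a), eigK M a j = 1 := by
  have hm := orderOf_pos a
  rw [Finset.sum_congr rfl fun j _ => eigK_eq hM ha j, Finset.sum_comm]
  rw [Finset.sum_congr rfl fun i _ =>
    show ∑ j ∈ Finset.range (orderOf a), MonoidAlgebra.single (a ^ i)
        (eta M (orderOf a) ^ (i * j)) =
        MonoidAlgebra.single (a ^ i) (∑ j ∈ Finset.range (orderOf a), eta M (orderOf a) ^ (i * j))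
      from (map_sum (MonoidAlgebra.singleAddHom (R := resField M) (a ^ i)) _ _).symm]
  rw [Finset.sum_eq_single 0]
  · rw [pow_zero, Finset.sum_congr rfl fun j _ => show eta M (orderOf a) ^ (0 * j) = 1 by
      rw [zero_mul, pow_zero], Finset.sum_const, Finset.card_range, nsmul_eq_mul,
      natCast_eq_one ha, one_mul, ← MonoidAlgebra.one_def]
  · intro i hi hi0
    rw [Finset.sum_congr rfl fun j _ => show eta M (orderOf a) ^ (i * j) =
      eta M (orderOf a) ^ (j * i) by rw [mul_comm],
      sum_eta hm fun h => hi0 (Nat.eq_zero_of_dvd_of_lt h (Finset.mem_range.1 hi)),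
      MonoidAlgebra.single_zero]
  · exact fun h => absurd (Finset.mem_range.2 hm) h

variable {n : ℕ} (U : G →* Matrix (Fin n) (Fin n) (ZMod 2))

/-- The extension to the residue field. -/
noncomputable def extRep (M : Ideal AlgInt) [M.IsPrime] [CharP (resField M) 2]
    (U : G →* Matrix (Fin n) (Fin n) (ZMod 2)) :
    MonoidAlgebra (resField M) G →ₐ[resField M] Matrix (Fin n) (Fin n) (resField M) :=
  MonoidAlgebra.lift (resField M) (Matrix (Fin n) (Fin n) (resField M)) G
    ((ZMod.castHom (dvd_refl 2) (resField M)).mapMatrix.toMonoidHom.comp U)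

theorem extRep_single (a : G) (c : resField M) :
    extRep M U (MonoidAlgebra.single a c) =
      c • (U a).map (ZMod.castHom (dvd_refl 2) (resField M)) := by
  rw [extRep, MonoidAlgebra.lift_single]
  rfl

/-- The multiplicity of an eigenvalue. -/
noncomputable def mult (M : Ideal AlgInt) [M.IsPrime] [CharP (resField M) 2]
    (U : G →* Matrix (Fin n) (Fin n) (ZMod 2)) (a : G) (j : ℕ) : ℕ :=
  (extRep M U (eigK M a j)).rank

/-- The lifted character. -/
noncomputable def lift2 (M : Ideal AlgInt) [M.IsPrime] [CharP (resField M) 2]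
    (U : G →* Matrix (Fin n) (Fin n) (ZMod 2)) : G → ℂ :=
  br 2 (ofMat (extRep M U))

theorem lift2_eq {a : G} (ha : ¬ 2 ∣ orderOf a) :
    lift2 M U a = ∑ j ∈ Finset.range (orderOf a),
      (mult M U a j : ℂ) * (zetaR M (orderOf a) : ℂ) ^ j := by
  rw [lift2, br, if_pos ha]
  exact Finset.sum_congr rfl fun j _ => by rw [eigMult_ofMat, mult]

theorem lift2_one : lift2 M U 1 = n := by
  rw [lift2, br_one (by norm_num), Module.finrank_fin_fun]

/-- The multiplicities add up to the degree. -/
theorem sum_mult (hM : IsPModular 2 M) {a : G} (ha : ¬ 2 ∣ orderOf a) :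
    ∑ j ∈ Finset.range (orderOf a), mult M U a j = n := by
  have h := finrank_range_sum (Finset.range (orderOf a))
    (fun j => ofMat (extRep M U) (eigK M a j))
    (fun j _ => by rw [← map_mul, eigK_idem hM ha])
    (fun i hi j hj hij => by
      rw [← map_mul, eigK_mul_eigK hM ha (Finset.mem_range.1 hi) (Finset.mem_range.1 hj) hij,
        map_zero])
  rw [← map_sum, sum_eigK_one hM ha, map_one,
    LinearMap.range_eq_top.2 (fun x => ⟨x, rfl⟩), finrank_top, Module.finrank_fin_fun] at h
  exact h.symm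

theorem mult_periodic (hM : IsPModular 2 M) {a : G} (ha : ¬ 2 ∣ orderOf a) (j : ℕ) :
    mult M U a (j % orderOf a) = mult M U a j := by
  rw [mult, mult, eigK_periodic hM ha]

theorem zetaR_pow_mod {m : ℕ} (hm : 0 < m) (i : ℕ) :
    (zetaR M m : ℂ) ^ (i % m) = (zetaR M m : ℂ) ^ i := by
  have h : (zetaR M m : ℂ) ^ m = 1 := by
    rw [← SubmonoidClass.coe_pow, (isPrimitiveRoot_zetaR hm).pow_eq_one]
    rfl
  conv_rhs => rw [← Nat.mod_add_div i m, pow_add, pow_mul, h, one_pow, mul_one]

/-- The value at a power. -/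
theorem lift2_pow (hM : IsPModular 2 M) {a : G} (ha : ¬ 2 ∣ orderOf a) {k : ℕ}
    (hk : k.Coprime (orderOf a)) :
    lift2 M U (a ^ k) = ∑ j ∈ Finset.range (orderOf a),
      (mult M U a j : ℂ) * (zetaR M (orderOf a) : ℂ) ^ (k * j) := by
  have ho : orderOf (a ^ k) = orderOf a := Nat.Coprime.orderOf_pow hk.symm
  rw [lift2_eq U (ho ▸ ha), ho, ← sum_range_mul_coprime hk (orderOf_pos a) _ fun i => by
    rw [zetaR_pow_mod (orderOf_pos a)]
    congr 2
    have h := mult_periodic U hM (a := a ^ k) (ho ▸ ha) i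
    rwa [ho] at h]
  refine Finset.sum_congr rfl fun j _ => ?_
  congr 2
  rw [mult, mult, eigK_pow hM ha hk]

/-- The multiplicities are invariant under doubling. -/
theorem mult_two_mul (hM : IsPModular 2 M) {a : G} (ha : ¬ 2 ∣ orderOf a) (j : ℕ) :
    mult M U a (2 * j) = mult M U a j := by
  haveI : ExpChar (resField M) 2 := ExpChar.prime Nat.prime_two
  set φ : resField M →+* resField M := frobenius (resField M) 2 with hφ
  have h : (extRep M U (eigK M a j)).map φ = extRep M U (eigK M a (2 * j)) := by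
    rw [eigK_eq hM ha, eigK_eq hM ha, map_sum, map_sum]
    show φ.mapMatrix (∑ i ∈ Finset.range (orderOf a), _) = _
    rw [map_sum]
    refine Finset.sum_congr rfl fun i _ => ?_
    rw [extRep_single, extRep_single]
    ext r s
    simp only [RingHom.mapMatrix_apply, Matrix.map_apply, Matrix.smul_apply, smul_eq_mul, map_mul]
    congr 1
    · rw [hφ, frobenius_def, ← pow_mul]
      congr 1
      ring
    · rw [hφ, frobenius_def, ← map_pow, ZMod.pow_card]
  rw [mult, mult, ← h, Robinson.rank_map_ringHom]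

/-- The lifted character is invariant under squaring. -/
theorem lift2_sq (hM : IsPModular 2 M) {a : G} (ha : ¬ 2 ∣ orderOf a) :
    lift2 M U (a ^ 2) = lift2 M U a := by
  have hk : (2 : ℕ).Coprime (orderOf a) := Nat.prime_two.coprime_iff_not_dvd.2 ha
  rw [lift2_pow U hM ha hk, lift2_eq U ha, ← sum_range_mul_coprime hk (orderOf_pos a)
    (fun j => (mult M U a j : ℂ) * (zetaR M (orderOf a) : ℂ) ^ j) fun i => by
      simp only [zetaR_pow_mod (orderOf_pos a), mult_periodic U hM ha]]
  exact Finset.sum_congr rfl fun j _ => by rw [mult_two_mul U hM ha]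

/-- The sum over a cyclic group of prime order. -/
theorem sum_lift2_powers (hM : IsPModular 2 M) {a : G} {t : ℕ} (ht : t.Prime) (ha : orderOf a = t)
    (h2 : ¬ 2 ∣ t) :
    ∑ k ∈ Finset.range t, lift2 M U (a ^ k) = (t : ℂ) * mult M U a 0 := by
  have hval : ∀ k ∈ Finset.range t, lift2 M U (a ^ k) = ∑ j ∈ Finset.range t,
      (mult M U a j : ℂ) * (zetaR M t : ℂ) ^ (k * j) := by
    intro k hk
    rcases Nat.eq_zero_or_pos k with rfl | hk0
    · rw [pow_zero, lift2_one]
      simp only [zero_mul, pow_zero, mul_one]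
      have h := sum_mult U hM (a := a) (ha ▸ h2)
      rw [ha] at h
      exact_mod_cast h.symm
    · have h := lift2_pow U hM (a := a) (ha ▸ h2) (k := k) (ha ▸
        (Nat.coprime_of_lt_prime hk0.ne' (Finset.mem_range.1 hk) ht).symm)
      rwa [ha] at h
  rw [Finset.sum_congr rfl hval, Finset.sum_comm, Finset.sum_eq_single 0]
  · simp [mul_comm]
  · intro j hj hj0
    have hζ : IsPrimitiveRoot (zetaR M t : ℂ) t :=
      (isPrimitiveRoot_zetaR ht.pos).map_of_injective (f := (locRing M).subtype)
        Subtype.val_injective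
    rw [← Finset.mul_sum, sum_pow_mul hζ fun h =>
      hj0 (Nat.eq_zero_of_dvd_of_lt h (Finset.mem_range.1 hj)), mul_zero]
  · exact fun h => absurd (Finset.mem_range.2 ht.pos) h

/-- The multiplicity of the trivial eigenvalue. -/
theorem mult_zero_eq (hM : IsPModular 2 M) {a : G} (ha : ¬ 2 ∣ orderOf a) :
    extRep M U (eigK M a 0) = (∑ i ∈ Finset.range (orderOf a), U a ^ i).map
      (ZMod.castHom (dvd_refl 2) (resField M)) := by
  rw [eigK_eq hM ha, map_sum]
  show _ = (ZMod.castHom (dvd_refl 2) (resField M)).mapMatrix (∑ i ∈ _, _)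
  rw [map_sum]
  refine Finset.sum_congr rfl fun i _ => ?_
  rw [extRep_single, mul_zero, pow_zero, one_smul, map_pow]
  rfl

theorem mult_zero_of_isUnit (hM : IsPModular 2 M) {a : G} (ha : ¬ 2 ∣ orderOf a)
    (hu : IsUnit (U a - 1)) : mult M U a 0 = 0 := by
  have h : ∑ i ∈ Finset.range (orderOf a), U a ^ i = 0 := by
    refine hu.mul_right_eq_zero.1 ?_
    rw [mul_geom_sum, ← map_pow, pow_orderOf_eq_one, map_one, sub_self]
  rw [mult, mult_zero_eq U hM ha, h, Matrix.map_zero _ (map_zero _), Matrix.rank_zero]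

end Residue

/-- For a group of order prime to `p` the Brauer characters are characters. -/
theorem isCharacter_br_coprime {p : ℕ} (hM : IsPModular p M) (hcop : ¬ p ∣ Nat.card G) {V : Type*}
    [AddCommGroup V] [Module (resField M) V] [FiniteDimensional (resField M) V]
    (F : MonoidAlgebra (resField M) G →ₐ[resField M] Module.End (resField M) V) :
    IsCharacter G (br p F) := by
  classical
  obtain ⟨S0, -, -, -, -, -, -⟩ := exists_sys hM (isPBlock_principalBlock M G) (p := p)
  obtain ⟨c, hc, -⟩ := S0.exists_expand hM F (p := p)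
  have e : br p F = ∑ l, (fun u => (c l : ℂ) * S0.beta p l u) := by
    funext u
    rw [hc, Finset.sum_apply]
  rw [e]
  refine Cfsg.Agent.Char.isCharacter_sum _ fun l _ => Cfsg.Agent.Char.IsCharacter.nsmul ?_ _
  obtain ⟨B, hB, hl, -⟩ := S0.exists_block l
  obtain ⟨S, T, h0, hirr⟩ := exists_irr_beta hM hcop hB
  obtain ⟨c', hc', hc0⟩ := S.exists_expand hM (ofMat (comp S0.q l)) (p := p)
  have e' : S0.beta p l = ∑ i, (fun u => (c' i : ℂ) * S.beta p i u) := by
    funext u
    rw [Sys.beta, hc', Finset.sum_apply]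
  rw [e']
  refine Cfsg.Agent.Char.isCharacter_sum _ fun i _ => ?_
  by_cases hi : i ∈ T
  · obtain ⟨χ, hχ⟩ := hirr i hi
    rw [hχ]
    exact Cfsg.Agent.Char.IsCharacter.nsmul (irr_isCharacter χ) _
  · rw [hc0 (Ek M B) (Ek_idem hB) hl i (h0 i hi)]
    simp only [Nat.cast_zero, zero_mul]
    exact Cfsg.Agent.Char.isCharacter_zero

/-- The lift of a faithful representation over the field of two elements of a group of odd
order. -/
theorem exists_lift (hodd : Odd (Nat.card G)) {n : ℕ} (U : G →* Matrix (Fin n) (Fin n) (ZMod 2))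
    (hU : Function.Injective U) :
    ∃ χ : G → ℂ, IsCharacter G χ ∧ χ 1 = n ∧ (∀ g, χ g = χ 1 → g = 1) ∧
      (∀ g, χ (g ^ 2) = χ g) ∧
      (∀ (a : G) (t : ℕ), t.Prime → orderOf a = t → IsUnit (U a - 1) →
        ∑ k ∈ Finset.range t, χ (a ^ k) = 0) ∧
      (∑ g : G, U g = 0 → classInner χ (fun _ => 1) ≠ 1) := by
  classical
  obtain ⟨M, hM⟩ := exists_isPModular_witness 2
  haveI := IsPModular.isPrime hM
  haveI := resField_charP hM
  have hcop : ¬ 2 ∣ Nat.card G := fun h =>
    Nat.not_even_iff_odd.2 hodd (even_iff_two_dvd.2 h)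
  have ho := not_two_dvd hodd
  have hchar : IsCharacter G (lift2 M U) := isCharacter_br_coprime hM hcop _
  refine ⟨lift2 M U, hchar, lift2_one U, ?_, fun g => lift2_sq U hM (ho g),
    fun a t ht hat hu => by
      rw [sum_lift2_powers U hM ht hat (hat ▸ ho a), mult_zero_of_isUnit U hM (ho a) hu]
      simp, ?_⟩
  · -- faithfulness
    intro g hg
    by_contra hg1
    obtain ⟨L, hL, hLm, -⟩ := Cfsg.Agent.Char.IsCharacter.exists_kernel hchar
    obtain ⟨r, hr, hrdvd⟩ := Nat.exists_prime_and_dvd (fun h => hg1 (orderOf_eq_one_iff.1 h))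
    set a := g ^ (orderOf g / r) with hadef
    have hao : orderOf a = r := by
      rw [hadef]
      exact orderOf_pow_orderOf_div (orderOf_pos g).ne' hrdvd
    have haL : ∀ k, a ^ k ∈ L := fun k => L.pow_mem (L.pow_mem ((hLm g).2 hg) _) k
    have hsum := sum_lift2_powers U hM hr hao (hao ▸ ho a)
    rw [Finset.sum_congr rfl fun k _ => ((hLm _).1 (haL k)).trans (lift2_one U), Finset.sum_const,
      Finset.card_range, nsmul_eq_mul] at hsum
    have h0 : mult M U a 0 = n := by
      have := mul_left_cancel₀ (Nat.cast_ne_zero.2 hr.ne_zero) hsum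
      exact_mod_cast this.symm
    have hE : extRep M U (eigK M a 0) = 1 := by
      obtain ⟨A, B, hAB, hBA⟩ := exists_rank_factor
        (X := extRep M U (eigK M a 0)) (by rw [← map_mul, eigK_idem hM (ho a)])
      have hs : ∀ (s : ℕ) (A : Matrix (Fin n) (Fin s) (resField M)) (B : Matrix (Fin s) (Fin n)
          (resField M)), s = n → B * A = 1 → A * B = 1 := by
        rintro s A B rfl h
        exact mul_eq_one_comm.1 h
      rw [← hAB]
      exact hs _ A B h0 hBA
    have h1 : (U a).map (ZMod.castHom (dvd_refl 2) (resField M)) = 1 := by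
      have h := congrArg (extRep M U) (show MonoidAlgebra.single a (1 : resField M) *
        eigK M a 0 = eigK M a 0 by
          rw [eigK_eq hM (ho a), Finset.mul_sum]
          refine Eq.trans (Finset.sum_congr rfl fun i _ => ?_) (sum_range_add_periodic
            (orderOf_pos a) (fun i => MonoidAlgebra.single (a ^ i)
              (eta M (orderOf a) ^ (i * 0))) (fun i => by simp only [pow_mod_orderOf, mul_zero]) 1)
          rw [MonoidAlgebra.single_mul_single, one_mul, mul_zero, mul_zero, pow_add, pow_one])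
      rw [map_mul, hE, mul_one, extRep_single, one_smul] at h
      exact h
    have h2 : U a = U 1 := by
      refine Matrix.map_injective (f := ZMod.castHom (dvd_refl 2) (resField M))
        (RingHom.injective _) ?_
      show (U a).map _ = (U 1).map _
      rw [h1, map_one, Matrix.map_one _ (map_zero _) (map_one _)]
    have h3 := hU h2
    rw [h3, orderOf_one] at hao
    exact hr.ne_one hao.symm
  · intro hz hone
    choose z hz1 hz2 using fun g => res_br hM (extRep M U) (ho g)
    rw [classInner, inv_mul_eq_iff_eq_mul₀ (Nat.cast_ne_zero.2 Nat.card_pos.ne'), mul_one] at hone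
    simp only [map_one, mul_one] at hone
    have h1 : ∑ g : G, z g = (Nat.card G : locRing M) := by
      refine Subtype.ext ?_
      push_cast
      rw [← hone]
      exact Finset.sum_congr rfl fun g _ => hz1 g
    have h2 := congrArg (res M) h1
    rw [map_sum, map_natCast, natCast_eq_one hcop] at h2
    have h3 : ∑ g : G, extRep M U (MonoidAlgebra.single g 1) = 0 := by
      have h := congrArg ((ZMod.castHom (dvd_refl 2) (resField M)).mapMatrix (m := Fin n)) hz
      rw [map_sum, map_zero] at h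
      refine Eq.trans (Finset.sum_congr rfl fun g _ => ?_) h
      rw [extRep_single, one_smul]
      rfl
    refine one_ne_zero (α := resField M) (h2.symm.trans ?_)
    rw [Finset.sum_congr rfl fun g _ => hz2 g, ← Matrix.trace_sum, h3, Matrix.trace_zero]

end Cfsg.Agent.TransLinear
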