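/-
A group of odd order acting transitively on the nonzero vectors of a finite vector space over
the field of two elements.
-/
import Cfsg.Agent.Lib.TransLinear.Basic
import Cfsg.Agent.Lib.TransLinear.Lift
import Cfsg.Agent.Lib.TransLinear.DegreeBound
import Cfsg.Agent.Lib.FiniteGroup.FittingPow
import Cfsg.Agent.S2904

set_option autoImplicit false
set_option linter.unusedSectionVars false
set_option linter.style.haveILetI false

namespace Cfsg.Agent.TransLinear

open Cfsg

set_option maxHeartbeats 400000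

variable {D E : Type*} [Group D] [Finite D] [AddCommGroup E] [Finite E] [Nontrivial E]
  [DistribMulAction D E] [FaithfulSMul D E]

/-- The prime is two. -/
theorem eq_two (hodd : Odd (Nat.card D)) {q : ℕ} (hq : q.Prime) (hE : ∀ e : E, q • e = 0)
    (htrans : ∀ a b : E, a ≠ 0 → b ≠ 0 → ∃ d : D, d • a = b) : q = 2 := by
  classical
  obtain ⟨e, he⟩ := exists_ne (0 : E)
  have horb : MulAction.orbit D e = {(0 : E)}ᶜ := by
    ext x
    simp only [Set.mem_compl_iff, Set.mem_singleton_iff]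
    constructor
    · rintro ⟨d, rfl⟩ h
      exact he ((smul_eq_zero_iff_eq d).1 h)
    · exact fun hx => htrans e x he hx
  have hdvd : Nat.card E - 1 ∣ Nat.card D := by
    have h := (MulAction.stabilizer D e).index_dvd_card
    rwa [MulAction.index_stabilizer, horb, Set.ncard_compl, Set.ncard_singleton] at h
  haveI := Fact.mk hq
  obtain ⟨a, ha⟩ : ∃ a : E, addOrderOf a = q :=
    ⟨e, addOrderOf_eq_prime (hE e) he⟩
  have hqE : q ∣ Nat.card E := ha ▸ addOrderOf_dvd_natCard a
  by_contra hne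
  have hqo : Odd q := hq.odd_of_ne_two hne
  have hEo : Odd (Nat.card E) := by
    letI := AddCommGroup.zmodModule hE
    haveI : Module.Finite (ZMod q) E := Module.Finite.of_finite
    rw [← FiniteField.pow_finrank_eq_natCard q E]
    exact hqo.pow
  have h2 : Even (Nat.card E - 1) := by
    obtain ⟨k, hk⟩ := hEo
    exact ⟨k, by omega⟩
  exact Nat.not_even_iff_odd.2 hodd (even_iff_two_dvd.2 ((even_iff_two_dvd.1 h2).trans hdvd))

/-- The character. -/
theorem exists_char [Fintype D] (hodd : Odd (Nat.card D)) (hE : ∀ e : E, 2 • e = 0) {n : ℕ}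
    (hn : Nat.card E = 2 ^ n) :
    ∃ χ : D → ℂ, IsCharacter D χ ∧ χ 1 = n ∧ (∀ g, χ g = χ 1 → g = 1) ∧
      (∀ g, χ (g ^ 2) = χ g) ∧
      (∀ (a : D) (t : ℕ), t.Prime → orderOf a = t → (∀ e : E, a • e = e → e = 0) →
        ∑ k ∈ Finset.range t, χ (a ^ k) = 0) ∧
      ((∀ e : E, (∀ d : D, d • e = e) → e = 0) → classInner χ (fun _ => 1) ≠ 1) := by
  classical
  letI := AddCommGroup.zmodModule hE
  haveI : Fact (Nat.Prime 2) := ⟨Nat.prime_two⟩
  haveI : Module.Finite (ZMod 2) E := Module.Finite.of_finite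
  have hfin : Module.finrank (ZMod 2) E = n := by
    have h := FiniteField.pow_finrank_eq_natCard 2 E
    rw [hn] at h
    exact Nat.pow_right_injective le_rfl h
  let b := Module.finBasisOfFinrankEq (ZMod 2) E hfin
  let ρ : D →* Module.End (ZMod 2) E :=
    { toFun := fun d => (DistribMulAction.toAddMonoidEnd D E d).toZModLinearMap 2
      map_one' := LinearMap.ext fun e => one_smul D e
      map_mul' := fun x y => LinearMap.ext fun e => mul_smul x y e }
  let T := LinearMap.toMatrixAlgEquiv b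
  let U : D →* Matrix (Fin n) (Fin n) (ZMod 2) := T.toAlgHom.toRingHom.toMonoidHom.comp ρ
  have hU : Function.Injective U := fun x y h => eq_of_smul_eq_smul (α := E) fun e =>
    LinearMap.congr_fun (T.injective h) e
  obtain ⟨χ, hχ, hχ1, hf, hsq, hsum, hfix⟩ := exists_lift hodd U hU
  refine ⟨χ, hχ, hχ1, hf, hsq, fun a t ht hat ha => hsum a t ht hat ?_, fun h => hfix ?_⟩
  · have h1 : IsUnit (ρ a - 1) := by
      rw [LinearMap.isUnit_iff_ker_eq_bot, LinearMap.ker_eq_bot']
      intro e he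
      exact ha e (sub_eq_zero.1 he)
    have h2 := h1.map T
    rwa [map_sub, map_one] at h2
  · have h1 : ∑ g : D, ρ g = 0 := LinearMap.ext fun e => h _ fun d => by
      rw [LinearMap.sum_apply, Finset.smul_sum]
      exact Fintype.sum_equiv (Equiv.mulLeft d) _ _ fun g => (mul_smul d g e).symm
    show ∑ g : D, T (ρ g) = 0
    rw [← map_sum, h1, map_zero]

/-- Transitivity forbids common fixed vectors. -/
theorem no_fixed (htrans : ∀ a b : E, a ≠ 0 → b ≠ 0 → ∃ d : D, d • a = b)
    (hn : 2 < Nat.card E) (e : E) (h : ∀ d : D, d • e = e) : e = 0 := by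
  by_contra he
  have hsub : ∀ x : E, x = 0 ∨ x = e := fun x => by
    by_cases hx : x = 0
    · exact Or.inl hx
    · obtain ⟨d, rfl⟩ := htrans e x he hx
      exact Or.inr (h d)
  have h2 : Nat.card E ≤ 2 := by
    rw [← Nat.card_fin 2]
    refine Nat.card_le_card_of_surjective (fun i : Fin 2 => if i = 0 then (0 : E) else e)
      fun x => ?_
    rcases hsub x with rfl | rfl
    · exact ⟨0, rfl⟩
    · exact ⟨1, rfl⟩
  omega

/-- Every element of prime power order lies in a normal Sylow subgroup. -/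
theorem mem_of_normal_sylow {t : ℕ} [Fact t.Prime] (P : Sylow t D) (hP : (P : Subgroup D).Normal)
    {g : D} (hg : ∃ k, orderOf g = t ^ k) : g ∈ (P : Subgroup D) := by
  obtain ⟨k, hk⟩ := hg
  obtain ⟨Q, hQ⟩ := (IsPGroup.of_card (n := k)
    (by rw [Nat.card_zpowers, hk]) : IsPGroup t (Subgroup.zpowers g)).exists_le_sylow
  letI := Sylow.unique_of_normal P hP
  rw [Subsingleton.elim Q P] at hQ
  exact hQ (Subgroup.mem_zpowers g)

/-- The orders of invariant subgroups. -/
theorem card_eq_two_pow {n : ℕ} (hn : Nat.card E = 2 ^ n) (U : AddSubgroup E) :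
    ∃ k ≤ n, Nat.card U = 2 ^ k :=
  (Nat.dvd_prime_pow Nat.prime_two).1 (hn ▸ U.card_addSubgroup_dvd_card)

theorem eq_bot_or_top {n k : ℕ} (hn : Nat.card E = 2 ^ n) {U : AddSubgroup E}
    (hk : Nat.card U = 2 ^ k) (h : k = 0 ∨ k = n) : U = ⊥ ∨ U = ⊤ := by
  rcases h with rfl | rfl
  · exact Or.inl (AddSubgroup.card_eq_one.1 (by rw [hk, pow_zero]))
  · exact Or.inr (AddSubgroup.eq_top_of_card_eq _ (hk.trans hn.symm))

theorem eq_one_of_fixSub_eq_top {a : D} (h : fixSub E a = ⊤) : a = 1 :=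
  eq_of_smul_eq_smul (α := E) fun e => by
    rw [one_smul]
    exact (h.ge (AddSubgroup.mem_top e) :)

/-- A fixed-point-free element of prime order: invariant subgroups. -/
theorem card_modEq_one {t : ℕ} (ht : t.Prime) {a : D} (ha : a ^ t = 1)
    (hfix : fixSub E a = ⊥) {U : AddSubgroup E} (hU : ∀ u ∈ U, a • u ∈ U) :
    Nat.card U ≡ 1 [MOD t] := by
  have h := card_modEq ht ha hU
  rwa [hfix, inf_bot_eq, AddSubgroup.card_bot] at h

/-- The case of a primitive prime divisor. -/
theorem generic (hodd : Odd (Nat.card D)) (hE : ∀ e : E, 2 • e = 0)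
    (htrans : ∀ a b : E, a ≠ 0 → b ≠ 0 → ∃ d : D, d • a = b) {n : ℕ} (hn : Nat.card E = 2 ^ n)
    (hn2 : 2 ≤ n) (hdvd : 2 ^ n - 1 ∣ Nat.card D) {t : ℕ} (ht : t.Prime) (htn : t ∣ 2 ^ n - 1)
    (hppd : ∀ k, 0 < k → k < n → ¬ t ∣ 2 ^ k - 1) :
    IsCyclic ↥(Cfsg.fittingSubgroup D) ∧
      (∀ g ∈ Cfsg.fittingSubgroup D, g ≠ 1 → ∀ a : E, g • a = a → a = 0) ∧
      commutator D ≤ Cfsg.fittingSubgroup D := by
  classical
  haveI : Fintype D := Fintype.ofFinite D
  haveI := Fact.mk ht
  have htD : t ∣ Nat.card D := htn.trans hdvd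
  have hto : Odd t := hodd.of_dvd_nat htD
  have hdvd1 : ∀ k, t ∣ 2 ^ k - 1 → k < n → k = 0 := fun k hk hkn =>
    Nat.eq_zero_of_not_pos fun hpos => hppd k hpos hkn hk
  have hone : ∀ k, 2 ^ k ≡ 1 [MOD t] → t ∣ 2 ^ k - 1 := fun k hk =>
    (Nat.modEq_iff_dvd' Nat.one_le_two_pow).1 hk.symm
  have hn1 : 2 ^ n ≡ 1 [MOD t] := ((Nat.modEq_iff_dvd' Nat.one_le_two_pow).2 htn).symm
  -- elements of order `t`
  have hfix : ∀ a : D, orderOf a = t → fixSub E a = ⊥ := by
    intro a ha
    obtain ⟨j, hj, hjc⟩ := card_eq_two_pow hn (fixSub E a)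
    have h := card_modEq (E := E) ht (ha ▸ pow_orderOf_eq_one a) (U := ⊤)
      fun u _ => AddSubgroup.mem_top _
    rw [top_inf_eq, AddSubgroup.card_top, hn, hjc] at h
    rcases lt_or_eq_of_le hj with hlt | rfl
    · rw [hdvd1 j (hone j (h.symm.trans hn1)) hlt, pow_zero] at hjc
      exact AddSubgroup.card_eq_one.1 hjc
    · exfalso
      rw [eq_one_of_fixSub_eq_top (AddSubgroup.eq_top_of_card_eq _ (hjc.trans hn.symm)),
        orderOf_one] at ha
      exact ht.ne_one ha.symm
  have hirr : ∀ a : D, orderOf a = t → Irred E a := by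
    intro a ha U hU
    obtain ⟨k, hk, hkc⟩ := card_eq_two_pow hn U
    refine eq_bot_or_top hn hkc ?_
    rcases lt_or_eq_of_le hk with hlt | rfl
    · exact Or.inl (hdvd1 k (hone k (hkc ▸ card_modEq_one ht (ha ▸ pow_orderOf_eq_one a)
        (hfix a ha) hU)) hlt)
    · exact Or.inr rfl
  obtain ⟨a, ha⟩ := exists_prime_orderOf_dvd_card' t htD
  -- the size of `t`
  have hdiv : n ∣ t - 1 := by
    have h1 : t ∣ 2 ^ (t - 1) - 1 := by
      have h := Nat.ModEq.pow_totient (Nat.coprime_two_left.2 hto)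
      rw [Nat.totient_prime ht] at h
      exact hone _ h
    have h2 := Nat.dvd_gcd htn h1
    rw [Nat.pow_sub_one_gcd_pow_sub_one] at h2
    rcases lt_or_eq_of_le (Nat.le_of_dvd (by omega) (Nat.gcd_dvd_left n (t - 1))) with hlt | he
    · exact absurd (hdvd1 _ h2 hlt) (Nat.gcd_pos_of_pos_left _ (by omega)).ne'
    · exact he ▸ Nat.gcd_dvd_right n (t - 1)
  have ht3 : 2 < t := by rcases hto with ⟨s, rfl⟩; have := ht.two_le; omega
  -- the normal Sylow subgroup
  obtain ⟨χ, hχ, hχ1, hf, hsq, hsum, -⟩ := exists_char hodd hE hn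
  obtain ⟨P⟩ : Nonempty (Sylow t D) := inferInstance
  have hPn : (P : Subgroup D).Normal := by
    refine DefOne.normal_sylow_of_constituents_odd hodd hχ hf (fun η hη => ?_) P
    rcases Nat.even_or_odd n with ⟨h, hh⟩ | hno
    · have hneg : t ∣ 2 ^ h + 1 := by
        have h1 : (2 ^ h + 1) * (2 ^ h - 1) = 2 ^ n - 1 := by
          rw [← Nat.sq_sub_sq, one_pow, ← pow_mul, show h * 2 = n by omega]
        rcases (Nat.Prime.dvd_mul ht).1 (h1 ▸ htn) with h2 | h2
        · exact h2
        · exact absurd h2 (hppd h (by omega) (by omega))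
      have h1 := degree_le_half hodd hχ hχ1 hsq (a := a) (h := h) ha hneg
        (hsum a t ht ha fun e he => (AddSubgroup.eq_bot_iff_forall _).1 (hfix a ha) e he) hη
      have := Nat.le_of_dvd (by omega) hdiv
      omega
    · have h1 : charDegree (η : D → ℂ) ≤ n :=
        Cfsg.Agent.Char.degree_le_of_constituent hχ η.2 hη hχ1 (CharX.irr_deg η)
      have h2 : 2 * n ∣ t - 1 := (Nat.coprime_two_left.2 hno).mul_dvd_of_dvd_of_dvd
        (by obtain ⟨s, rfl⟩ := hto; omega) hdiv
      have := Nat.le_of_dvd (by omega) h2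
      omega
  have hmem : ∀ g : D, (∃ k, orderOf g = t ^ k) → g ∈ (P : Subgroup D) :=
    fun g => mem_of_normal_sylow P hPn
  haveI : Nontrivial (P : Subgroup D) := by
    refine ⟨⟨⟨a, hmem a ⟨1, by rw [ha, pow_one]⟩⟩, 1, fun h => ?_⟩⟩
    rw [show a = 1 from congrArg Subtype.val h, orderOf_one] at ha
    exact ht.ne_one ha.symm
  haveI := P.isPGroup'.center_nontrivial
  obtain ⟨w, hw⟩ := exists_prime_orderOf_dvd_card' (G := Subgroup.center (P : Subgroup D)) t
    (by
      obtain ⟨k, hk⟩ := (P.isPGroup'.to_subgroup (Subgroup.center (P : Subgroup D))).exists_card_eq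
      rw [hk]
      refine dvd_pow_self t fun h => ?_
      rw [h, pow_zero] at hk
      exact (Finite.one_lt_card (α := Subgroup.center (P : Subgroup D))).ne' hk)
  set z : D := ((w : (P : Subgroup D)) : D) with hzdef
  have hz : orderOf z = t := by rw [hzdef, Subgroup.orderOf_coe, Subgroup.orderOf_coe, hw]
  have hPz : ∀ g ∈ (P : Subgroup D), g * z = z * g := fun g hg =>
    congrArg Subtype.val (Subgroup.mem_center_iff.1 w.2 ⟨g, hg⟩)
  haveI hC : IsCyclic (Subgroup.centralizer {z} : Subgroup D) :=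
    isCyclic_of_irred (hirr z hz) fun h hh => Subgroup.mem_centralizer_singleton_iff.1 hh
  refine core htrans ht hz ⟨fun k hk d => ?_⟩ hC fun g hg => hPz g (hmem g hg)
  have hkP : k ∈ (P : Subgroup D) :=
    (Subgroup.zpowers_le.2 (hmem z ⟨1, by rw [hz, pow_one]⟩)) hk
  have hk1 : (d * k * d⁻¹) ^ t = 1 := by
    obtain ⟨i, rfl⟩ := hk
    rw [conj_pow, ← zpow_natCast, ← zpow_mul, mul_comm, zpow_mul, zpow_natCast,
      show z ^ t = 1 from hz ▸ pow_orderOf_eq_one z, one_zpow, mul_one, mul_inv_cancel]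
  refine mem_zpowers_of_isCyclic (H := Subgroup.centralizer {z})
    (Subgroup.mem_centralizer_singleton_iff.2 rfl)
    (Subgroup.mem_centralizer_singleton_iff.2 (hPz _ (hPn.conj_mem k hkP d))) ht.pos hz hk1

end Cfsg.Agent.TransLinear
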