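/-
The exceptional dimension six.
-/
import Cfsg.Agent.Lib.TransLinear.Structure

set_option autoImplicit false
set_option linter.unusedSectionVars false
set_option linter.style.haveILetI false

namespace Cfsg.Agent.TransLinear

open Cfsg
open scoped commutatorElement

set_option maxHeartbeats 400000

variable {D E : Type*} [Group D] [Finite D] [AddCommGroup E] [Finite E] [Nontrivial E]
  [DistribMulAction D E] [FaithfulSMul D E]

theorem smul_mem_fixSub {a b : D} (h : a * b = b * a) : ∀ u ∈ fixSub E a, b • u ∈ fixSub E a := by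
  intro u hu
  show a • b • u = b • u
  rw [← mul_smul, h, mul_smul, show a • u = u from hu]

/-- The powers of two congruent to one modulo seven. -/
theorem two_pow_mod_seven {j : ℕ} (hj : j ≤ 6) (h : 2 ^ j % 7 = 1 % 7) :
    j = 0 ∨ j = 3 ∨ j = 6 := by
  interval_cases j <;> simp_all

/-- The fixed points of an element of order seven. -/
theorem card_fix_seven (hn : Nat.card E = 2 ^ 6) {a : D} (ha : a ^ 7 = 1) (ha1 : a ≠ 1) :
    Nat.card (fixSub E a) = 1 ∨ Nat.card (fixSub E a) = 8 := by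
  obtain ⟨j, hj, hjc⟩ := card_eq_two_pow hn (fixSub E a)
  have h := card_modEq (E := E) (by norm_num : Nat.Prime 7) ha (U := ⊤)
    fun u _ => AddSubgroup.mem_top _
  rw [top_inf_eq, AddSubgroup.card_top, hn, hjc, Nat.ModEq] at h
  have hne : j ≠ 6 := fun h6 => ha1 (eq_one_of_fixSub_eq_top
    (AddSubgroup.eq_top_of_card_eq _ (by rw [hjc, h6, hn])))
  rcases two_pow_mod_seven hj (h.symm.trans (by norm_num)) with rfl | rfl | rfl
  · exact Or.inl (by rw [hjc, pow_zero])
  · exact Or.inr (by rw [hjc]; norm_num)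
  · exact absurd rfl hne

/-- Two fixed spaces of commuting elements of order seven. -/
theorem fix_eq_or_inf_eq_bot (hn : Nat.card E = 2 ^ 6) {a b : D} (ha : a ^ 7 = 1) (ha1 : a ≠ 1)
    (hb : b ^ 7 = 1) (hb1 : b ≠ 1) (hab : a * b = b * a) :
    fixSub E a = fixSub E b ∨ fixSub E a ⊓ fixSub E b = ⊥ := by
  rcases card_fix_seven hn ha ha1 with h1 | h1
  · right
    rw [AddSubgroup.card_eq_one.1 h1, bot_inf_eq]
  rcases card_fix_seven hn hb hb1 with h2 | h2
  · right
    rw [AddSubgroup.card_eq_one.1 h2, inf_bot_eq]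
  have h := card_modEq (E := E) (by norm_num : Nat.Prime 7) hb (U := fixSub E a)
    (smul_mem_fixSub hab)
  rw [h1] at h
  obtain ⟨j, hj, hjc⟩ := card_eq_two_pow hn (fixSub E a ⊓ fixSub E b)
  have hle : Nat.card (fixSub E a ⊓ fixSub E b : AddSubgroup E) ≤ 8 :=
    h1 ▸ AddSubgroup.card_le_of_le inf_le_left
  rw [hjc, Nat.ModEq] at h
  rw [hjc] at hle
  rcases two_pow_mod_seven hj (h.symm.trans (by norm_num)) with rfl | rfl | rfl
  · exact Or.inr (AddSubgroup.card_eq_one.1 (by rw [hjc, pow_zero]))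
  rotate_left
  · norm_num at hle
  left
  exact (AddSubgroup.eq_of_le_of_card_ge inf_le_left (by rw [h1, hjc]; norm_num)).symm.trans
    (AddSubgroup.eq_of_le_of_card_ge inf_le_right (by rw [h2, hjc]; norm_num))

/-- Two subgroups of order eight meeting trivially fill the space. -/
theorem exists_decomp_eight (hn : Nat.card E = 2 ^ 6) {U V : AddSubgroup E}
    (hU : Nat.card U = 8) (hV : Nat.card V = 8) (h : U ⊓ V = ⊥) (e : E) :
    ∃ u ∈ U, ∃ v ∈ V, e = u + v := by
  have hinj : Function.Injective (fun x : U × V => (x.1 : E) + (x.2 : E)) := by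
    intro x y hxy
    have h1 : (x.1 : E) - y.1 = (y.2 : E) - x.2 := by
      rw [sub_eq_sub_iff_add_eq_add]
      exact hxy.trans (add_comm _ _)
    have h2 : (x.1 : E) - y.1 ∈ U ⊓ V :=
      ⟨U.sub_mem x.1.2 y.1.2, h1 ▸ V.sub_mem y.2.2 x.2.2⟩
    rw [h, AddSubgroup.mem_bot] at h2
    have h3 := h1.symm.trans h2
    exact Prod.ext (Subtype.ext (sub_eq_zero.1 h2)) (Subtype.ext (sub_eq_zero.1 h3).symm)
  obtain ⟨x, hx⟩ := ((Nat.bijective_iff_injective_and_card _).2
    ⟨hinj, by rw [Nat.card_prod, hU, hV, hn]; norm_num⟩).2 e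
  exact ⟨_, x.1.2, _, x.2.2, hx.symm⟩

/-- Elements of order seven of an abelian normal subgroup have no fixed points. -/
theorem fix_eq_bot_of_abelian (hn : Nat.card E = 2 ^ 6)
    (htrans : ∀ a b : E, a ≠ 0 → b ≠ 0 → ∃ d : D, d • a = b) {P : Subgroup D} (hP : P.Normal)
    (hcomm : ∀ a ∈ P, ∀ b ∈ P, a * b = b * a) (h7 : ∀ a ∈ P, a ^ 7 = 1) {a : D} (haP : a ∈ P)
    (ha1 : a ≠ 1) : fixSub E a = ⊥ := by
  by_contra hne
  have hU : Nat.card (fixSub E a) = 8 :=
    (card_fix_seven hn (h7 a haP) ha1).resolve_left fun h => hne (AddSubgroup.card_eq_one.1 h)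
  obtain ⟨u, hu, hu0⟩ : ∃ u ∈ fixSub E a, u ≠ 0 := by
    by_contra h
    push Not at h
    exact hne ((AddSubgroup.eq_bot_iff_forall _).2 h)
  have hmove : ∀ v : E, v ≠ 0 → ∃ b ∈ P, b ≠ 1 ∧ v ∈ fixSub E b := by
    intro v hv
    obtain ⟨d, rfl⟩ := htrans u v hu0 hv
    refine ⟨d * a * d⁻¹, hP.conj_mem a haP d, fun h => ha1 ?_, ?_⟩
    · rw [mul_inv_eq_one] at h
      exact mul_left_cancel (h.trans (mul_one d).symm)
    · show (d * a * d⁻¹) • d • u = d • u
      rw [mul_smul, inv_smul_smul, mul_smul, show a • u = u from hu]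
  obtain ⟨v, hv⟩ : ∃ v, v ∉ fixSub E a := by
    by_contra h
    push Not at h
    exact ha1 (eq_one_of_fixSub_eq_top ((AddSubgroup.eq_top_iff' _).2 h))
  have hv0 : v ≠ 0 := fun h => hv (h ▸ zero_mem _)
  obtain ⟨b, hbP, hb1, hvb⟩ := hmove v hv0
  have hab : fixSub E a ⊓ fixSub E b = ⊥ :=
    (fix_eq_or_inf_eq_bot hn (h7 a haP) ha1 (h7 b hbP) hb1 (hcomm a haP b hbP)).resolve_left
      fun h => hv (h ▸ hvb)
  have hne' : u + v ≠ 0 := fun h => hv (by
    rw [eq_neg_of_add_eq_zero_right h]; exact neg_mem hu)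
  obtain ⟨c, hcP, hc1, hc⟩ := hmove _ hne'
  have hcu : c • u - u ∈ fixSub E a ⊓ fixSub E b := by
    refine AddSubgroup.mem_inf.2 ⟨sub_mem (smul_mem_fixSub (hcomm a haP c hcP) u hu) hu, ?_⟩
    have h : c • u - u = v - c • v := by
      rw [sub_eq_sub_iff_add_eq_add, ← smul_add, show c • (u + v) = u + v from hc]
      exact add_comm u v
    rw [h]
    exact sub_mem hvb (smul_mem_fixSub (hcomm b hbP c hcP) v hvb)
  rw [hab, AddSubgroup.mem_bot, sub_eq_zero] at hcu
  rcases fix_eq_or_inf_eq_bot hn (h7 a haP) ha1 (h7 c hcP) hc1 (hcomm a haP c hcP) with h | h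
  · refine hv ?_
    have h1 := sub_mem (h ▸ hc : u + v ∈ fixSub E a) hu
    rwa [add_sub_cancel_left] at h1
  · exact hu0 ((AddSubgroup.eq_bot_iff_forall _).1 h u ⟨hu, hcu⟩)

/-- Dimension six. -/
theorem six (hodd : Odd (Nat.card D)) (hE : ∀ e : E, 2 • e = 0)
    (htrans : ∀ a b : E, a ≠ 0 → b ≠ 0 → ∃ d : D, d • a = b) (hn : Nat.card E = 2 ^ 6)
    (hdvd : 63 ∣ Nat.card D) :
    IsCyclic ↥(Cfsg.fittingSubgroup D) ∧
      (∀ g ∈ Cfsg.fittingSubgroup D, g ≠ 1 → ∀ a : E, g • a = a → a = 0) ∧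
      commutator D ≤ Cfsg.fittingSubgroup D := by
  classical
  haveI : Fintype D := Fintype.ofFinite D
  haveI : Fact (Nat.Prime 7) := ⟨by norm_num⟩
  haveI : Fact (Nat.Prime 3) := ⟨by norm_num⟩
  have hnofix := no_fixed (D := D) htrans (by rw [hn]; norm_num)
  -- the normal Sylow 7-subgroup
  obtain ⟨χ, hχ, hχ1, hf, hsq, -, hone⟩ := exists_char hodd hE hn
  obtain ⟨P⟩ : Nonempty (Sylow 7 D) := inferInstance
  have hPn : (P : Subgroup D).Normal :=
    DefOne.normal_sylow_of_constituents_odd hodd hχ hf (fun η hη => by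
      have := degree_le_three hodd hχ hχ1 hsq (hone hnofix) hη
      omega) P
  haveI := hPn
  have hP1 : (P : Subgroup D) ≠ ⊥ := by
    intro h
    have h1 := P.pow_dvd_card_of_pow_dvd_card (n := 1) (dvd_trans (by norm_num) hdvd)
    rw [h, Subgroup.card_bot] at h1
    norm_num at h1
  -- stabilisers of points
  have hstab : ∀ v : E, v ≠ 0 →
      ((MulAction.stabilizer D v).subgroupOf (P : Subgroup D)).index = 7 := by
    intro v hv
    have h1 : (MulAction.stabilizer D v).index = 63 := by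
      have horb : MulAction.orbit D v = {(0 : E)}ᶜ := by
        ext x
        simp only [Set.mem_compl_iff, Set.mem_singleton_iff]
        constructor
        · rintro ⟨d, rfl⟩ h
          exact hv ((smul_eq_zero_iff_eq d).1 h)
        · exact fun hx => htrans v x hv hx
      rw [MulAction.index_stabilizer, horb, Set.ncard_compl, Set.ncard_singleton, hn]
      norm_num
    have h2 : ((MulAction.stabilizer D v).subgroupOf (P : Subgroup D)).index ∣ 63 :=
      h1 ▸ FiniteGroup.relIndex_dvd_index_of_normal_right _ _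
    obtain ⟨k, hk⟩ := P.isPGroup'.index ((MulAction.stabilizer D v).subgroupOf (P : Subgroup D))
    rw [hk] at h2 ⊢
    have hk2 : k < 2 := by
      by_contra h
      have h3 := (pow_dvd_pow 7 (show 2 ≤ k by omega)).trans h2
      norm_num at h3
    rcases Nat.eq_zero_or_pos k with rfl | hk0
    · rw [pow_zero, Subgroup.index_eq_one, Subgroup.subgroupOf_eq_top] at hk
      exact absurd (eq_bot_of_normal_fix htrans hPn hv fun g hg => hk hg) hP1
    · rw [show k = 1 by omega, pow_one]
  -- elementary abelian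
  have hkill : ∀ v : E, v ≠ 0 → (∀ a ∈ (P : Subgroup D), (a ^ 7) • v = v) ∧
      ∀ a ∈ (P : Subgroup D), ∀ b ∈ (P : Subgroup D), ((b * a)⁻¹ * (a * b)) • v = v := by
    intro v hv
    set Pv := (MulAction.stabilizer D v).subgroupOf (P : Subgroup D) with hPv
    haveI : Pv.Normal := by
      refine Subgroup.normal_of_index_eq_minFac_card ?_
      obtain ⟨k, hk⟩ := P.isPGroup'.exists_card_eq
      have hk0 : k ≠ 0 := fun h => hP1 (Subgroup.card_eq_one.1 (by rw [hk, h, pow_zero]))
      rw [hstab v hv, hk, Nat.pow_minFac hk0, Nat.Prime.minFac_eq (by norm_num)]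
    have hQ : Nat.card ((P : Subgroup D) ⧸ Pv) = 7 := by
      rw [← Subgroup.index_eq_card]; exact hstab v hv
    haveI : IsCyclic ((P : Subgroup D) ⧸ Pv) := isCyclic_of_prime_card hQ
    refine ⟨fun a ha => ?_, fun a ha b hb => ?_⟩
    · have h : QuotientGroup.mk' Pv (⟨a, ha⟩ ^ 7) = 1 := by
        have h0 := pow_card_eq_one' (x := QuotientGroup.mk' Pv ⟨a, ha⟩)
        rwa [hQ, ← map_pow] at h0
      exact Subgroup.mem_subgroupOf.1 ((QuotientGroup.eq_one_iff _).1 h)
    · have h : QuotientGroup.mk' Pv (⟨b, hb⟩ * ⟨a, ha⟩) = QuotientGroup.mk' Pv (⟨a, ha⟩ * ⟨b, hb⟩) := by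
        rw [map_mul, map_mul]
        exact IsCyclic.commGroup.mul_comm _ _
      exact Subgroup.mem_subgroupOf.1 (QuotientGroup.eq.1 h)
  have hfaith : ∀ g : D, (∀ v : E, v ≠ 0 → g • v = v) → g = 1 := fun g h =>
    eq_of_smul_eq_smul (α := E) fun e => by
      rw [one_smul]
      by_cases he : e = 0
      · rw [he, smul_zero]
      · exact h e he
  have h7 : ∀ a ∈ (P : Subgroup D), a ^ 7 = 1 := fun a ha =>
    hfaith _ fun v hv => (hkill v hv).1 a ha
  have hcomm : ∀ a ∈ (P : Subgroup D), ∀ b ∈ (P : Subgroup D), a * b = b * a := fun a ha b hb =>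
    (inv_mul_eq_one.1 (hfaith _ fun v hv => (hkill v hv).2 a ha b hb)).symm
  have hfixP : ∀ a ∈ (P : Subgroup D), a ≠ 1 → fixSub E a = ⊥ := fun a ha ha1 =>
    fix_eq_bot_of_abelian hn htrans hPn hcomm h7 ha ha1
  have hcardP : Nat.card (P : Subgroup D) = 7 := by
    obtain ⟨v, hv⟩ := exists_ne (0 : E)
    have h : (MulAction.stabilizer D v).subgroupOf (P : Subgroup D) = ⊥ := by
      refine (Subgroup.eq_bot_iff_forall _).2 fun g hg => ?_
      by_contra hg1
      exact hv ((AddSubgroup.eq_bot_iff_forall _).1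
        (hfixP g g.2 fun h => hg1 (Subtype.ext h)) v (Subgroup.mem_subgroupOf.1 hg))
    have h1 := hstab v hv
    rwa [h, Subgroup.index_bot] at h1
  obtain ⟨y, hyP, hy1⟩ := (Subgroup.bot_or_exists_ne_one _).resolve_left hP1
  have hy : orderOf y = 7 := orderOf_eq_prime (h7 y hyP) hy1
  have hPy : Subgroup.zpowers y = (P : Subgroup D) :=
    Subgroup.eq_of_le_of_card_ge (Subgroup.zpowers_le.2 hyP)
      (by rw [Nat.card_zpowers, hy, hcardP])
  have hyfix : fixSub E y = ⊥ := hfixP y hyP hy1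
  -- the centraliser
  set C : Subgroup D := Subgroup.centralizer {y} with hCdef
  have hCy : ∀ c ∈ C, c * y = y * c := fun c hc => Subgroup.mem_centralizer_singleton_iff.1 hc
  have hindex : C.index ∣ 6 := by
    let φ : D →* MulAut (P : Subgroup D) := MulAut.conjNormal
    have hker : φ.ker = C := by
      ext d
      constructor
      · intro hd
        have h := congrArg Subtype.val (DFunLike.congr_fun (MonoidHom.mem_ker.1 hd) ⟨y, hyP⟩)
        rw [MulAut.conjNormal_apply] at h
        change d * y * d⁻¹ = y at h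
        exact Subgroup.mem_centralizer_singleton_iff.2 (mul_inv_eq_iff_eq_mul.1 h)
      · intro hd
        refine MonoidHom.mem_ker.2 (MulEquiv.ext fun x => Subtype.ext ?_)
        rw [MulAut.conjNormal_apply]
        change d * (x : D) * d⁻¹ = x
        obtain ⟨i, hi⟩ : (x : D) ∈ Subgroup.zpowers y := hPy.symm ▸ x.2
        rw [← hi, ← conj_zpow, mul_inv_eq_iff_eq_mul.2 (hCy d hd)]
    haveI : IsCyclic (P : Subgroup D) := isCyclic_of_prime_card hcardP
    rw [← hker, Subgroup.index_ker]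
    refine dvd_trans (Subgroup.card_subgroup_dvd_card _) (dvd_of_eq ?_)
    rw [IsCyclic.card_mulAut, hcardP, Nat.totient_prime (by norm_num)]
  have h3C : 3 ∣ Nat.card C := by
    have h9 : 3 ^ 2 ∣ Nat.card C * C.index := by
      rw [C.card_mul_index]; exact dvd_trans (by norm_num) hdvd
    rcases (Nat.dvd_prime (by norm_num : Nat.Prime 3)).1
      ((Nat.Coprime.dvd_of_dvd_mul_left (Nat.coprime_two_right.2
        (hodd.of_dvd_nat C.index_dvd_card)) hindex : C.index ∣ 3)) with h | h
    · rw [h, mul_one] at h9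
      exact dvd_trans (by norm_num) h9
    · rw [h, pow_two] at h9
      exact Nat.dvd_of_mul_dvd_mul_right (by norm_num) h9
  have hCfix : ∀ g ∈ C, g ≠ 1 → fixSub E g = ⊥ := by
    intro g hg hg1
    by_contra hne
    have hyU : ∀ u ∈ fixSub E g, y • u ∈ fixSub E g := smul_mem_fixSub (hCy g hg)
    obtain ⟨j, hj, hjc⟩ := card_eq_two_pow hn (fixSub E g)
    have h := card_modEq_one (E := E) (by norm_num : Nat.Prime 7) (h7 y hyP) hyfix hyU
    rw [hjc, Nat.ModEq] at h
    have hj3 : j = 3 := by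
      rcases two_pow_mod_seven hj h with rfl | rfl | rfl
      · exact absurd (AddSubgroup.card_eq_one.1 (by rw [hjc, pow_zero])) hne
      · rfl
      · exact absurd (eq_one_of_fixSub_eq_top (AddSubgroup.eq_top_of_card_eq _
          (hjc.trans hn.symm))) hg1
    rw [hj3] at hjc
    let f : E →+ E := DistribSMul.toAddMonoidHom E g - AddMonoidHom.id E
    have hfe : ∀ e, f e = g • e - e := fun e => rfl
    have hfker : f.ker = fixSub E g := by
      ext e
      rw [AddMonoidHom.mem_ker, hfe, sub_eq_zero, mem_fixSub]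
    have hV : Nat.card f.range = 8 := by
      have h1 := f.ker.card_mul_index
      rw [AddSubgroup.index_ker, hfker, hjc, hn] at h1
      omega
    have hcomm' : ∀ e : E, y • g • e = g • y • e := fun e => by rw [← mul_smul, ← mul_smul, hCy g hg]
    have hyV : ∀ u ∈ f.range, y • u ∈ f.range := by
      rintro _ ⟨e, rfl⟩
      exact ⟨y • e, by rw [hfe, hfe, smul_sub, hcomm']⟩
    have hinter : fixSub E g ⊓ f.range = ⊥ := by
      obtain ⟨i, hi, hic⟩ := card_eq_two_pow hn (fixSub E g ⊓ f.range)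
      have h1 := card_modEq_one (E := E) (by norm_num : Nat.Prime 7) (h7 y hyP) hyfix
        (U := fixSub E g ⊓ f.range) fun u hu => ⟨hyU u hu.1, hyV u hu.2⟩
      have hle := AddSubgroup.card_le_of_le (inf_le_left : fixSub E g ⊓ f.range ≤ fixSub E g)
      rw [hic, hjc] at hle
      rw [hic, Nat.ModEq] at h1
      rcases two_pow_mod_seven hi h1 with rfl | rfl | rfl
      · exact AddSubgroup.card_eq_one.1 (by rw [hic, pow_zero])
      rotate_left
      · norm_num at hle
      · exfalso
        refine hg1 ?_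
        have heq : fixSub E g ⊓ f.range = f.range :=
          AddSubgroup.eq_of_le_of_card_ge inf_le_right (by rw [hic, hV]; norm_num)
        have h2 : ∀ e : E, (g * g) • e = e := by
          intro e
          have he : g • (g • e - e) = g • e - e :=
            ((heq.ge ⟨e, hfe e⟩ : g • e - e ∈ fixSub E g ⊓ f.range)).1
          rw [smul_sub, sub_eq_iff_eq_add] at he
          rw [mul_smul, he, sub_add_eq_add_sub, ← two_nsmul, hE, zero_sub, neg_eq_iff_add_eq_zero,
            ← two_nsmul, hE]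
        have hgg : g ^ 2 = 1 := eq_of_smul_eq_smul (α := E) fun e => by rw [pow_two, h2, one_smul]
        rw [← orderOf_eq_one_iff]
        refine Nat.eq_one_of_dvd_coprimes (Nat.coprime_two_left.2 hodd) ?_
          (orderOf_dvd_natCard g)
        exact orderOf_dvd_of_pow_eq_one hgg
    have hgV : ∀ u ∈ f.range, g • u ∈ f.range := by
      rintro _ ⟨e, rfl⟩
      exact ⟨g • e, by rw [hfe, hfe, smul_sub]⟩
    obtain ⟨w, hw⟩ : ∃ w : f.range, w ≠ 0 := by
      haveI : Nontrivial f.range := Finite.one_lt_card_iff_nontrivial.1 (by rw [hV]; norm_num)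
      exact exists_ne 0
    -- the powers of `y` exhaust the range
    have hexh : ∀ x ∈ f.range, x ≠ 0 → ∃ k : ℕ, y ^ k • (w : E) = x := by
      intro x hx hx0
      haveI : Fintype f.range := Fintype.ofFinite _
      let F : Fin 7 → {z : f.range // z ≠ 0} := fun k =>
        ⟨⟨y ^ (k : ℕ) • (w : E), invariant_zpowers hyV
          (Subgroup.pow_mem _ (Subgroup.mem_zpowers y) _) _ w.2⟩, fun h => hw (by
          have h' : y ^ (k : ℕ) • (w : E) = 0 := congrArg Subtype.val h
          exact Subtype.ext ((smul_eq_zero_iff_eq _).1 h'))⟩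
      have hinj : Function.Injective F := by
        intro i k hik
        have h' : y ^ (i : ℕ) • (w : E) = y ^ (k : ℕ) • (w : E) :=
          congrArg (fun z : {z : f.range // z ≠ 0} => ((z : f.range) : E)) hik
        by_contra hne'
        refine hw (Subtype.ext ((AddSubgroup.eq_bot_iff_forall _).1
          (hfixP ((y ^ (k : ℕ))⁻¹ * y ^ (i : ℕ)) ?_ ?_) w ?_))
        · exact mul_mem (inv_mem (pow_mem hyP _)) (pow_mem hyP _)
        · intro h1
          rw [inv_mul_eq_one] at h1
          exact hne' (Fin.ext (pow_injOn_Iio_orderOf (by rw [Set.mem_Iio, hy]; exact i.2)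
            (by rw [Set.mem_Iio, hy]; exact k.2) h1.symm))
        · show ((y ^ (k : ℕ))⁻¹ * y ^ (i : ℕ)) • (w : E) = w
          rw [mul_smul, h', inv_smul_smul]
      have hcard : Fintype.card (Fin 7) = Fintype.card {z : f.range // z ≠ 0} := by
        rw [Fintype.card_fin, Fintype.card_subtype_compl, Fintype.card_subtype_eq,
          ← Nat.card_eq_fintype_card, hV]
      obtain ⟨k, hk⟩ := ((Fintype.bijective_iff_injective_and_card F).2 ⟨hinj, hcard⟩).2
        ⟨⟨x, hx⟩, fun h => hx0 (congrArg Subtype.val h)⟩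
      exact ⟨k, congrArg (fun z : {z : f.range // z ≠ 0} => ((z : f.range) : E)) hk⟩
    obtain ⟨i, hi⟩ := hexh (g • (w : E)) (hgV _ w.2)
      fun h => hw (Subtype.ext ((smul_eq_zero_iff_eq g).1 h))
    have hgy : ∀ k : ℕ, g * y ^ k = y ^ k * g := fun k =>
      ((show Commute g y from hCy g hg).pow_right k).eq
    have hpow : ∀ m : ℕ, g ^ m • (w : E) = y ^ (i * m) • (w : E) := by
      intro m
      induction m with
      | zero => rw [pow_zero, mul_zero, pow_zero]
      | succ m ih =>
        rw [pow_succ', mul_smul, ih, ← mul_smul, hgy, mul_smul, ← hi, ← mul_smul, ← pow_add,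
          mul_add, mul_one]
    have hg7 : g ^ 7 = 1 := by
      have hV7 : ∀ x ∈ f.range, g ^ 7 • x = x := by
        intro x hx
        by_cases hx0 : x = 0
        · rw [hx0, smul_zero]
        obtain ⟨k, rfl⟩ := hexh x hx hx0
        rw [← mul_smul, (((show Commute g y from hCy g hg).pow_pow 7 k)).eq, mul_smul, hpow,
          mul_comm, pow_mul, h7 y hyP, one_pow, one_smul]
      have hU7 : ∀ x ∈ fixSub E g, g ^ 7 • x = x := fun x hx =>
        (pow_mem (MulAction.mem_stabilizer_iff.2 hx) 7 : g ^ 7 ∈ MulAction.stabilizer D x)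
      refine eq_of_smul_eq_smul (α := E) fun e => ?_
      obtain ⟨a, ha, b, hb, rfl⟩ := exists_decomp_eight hn hjc hV hinter e
      rw [one_smul, smul_add, hU7 a ha, hV7 b hb]
    have hgP : g ∈ (P : Subgroup D) := mem_of_normal_sylow P hPn
      ⟨1, by rw [pow_one, orderOf_eq_prime hg7 hg1]⟩
    exact hne (hfixP g hgP hg1)
  have hCprimes : ∀ r : ℕ, r.Prime → r ∣ Nat.card C → r = 3 ∨ r = 7 := by
    intro r hr hrC
    haveI := Fact.mk hr
    obtain ⟨g, hg⟩ := exists_prime_orderOf_dvd_card' r hrC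
    have hg1 : (g : D) ≠ 1 := fun h => hr.ne_one (by
      rw [← hg, ← Subgroup.orderOf_coe, h, orderOf_one])
    have hgr : (g : D) ^ r = 1 := by
      rw [← SubgroupClass.coe_pow, ← hg, pow_orderOf_eq_one]; rfl
    have h := card_modEq_one (E := E) hr hgr (hCfix g g.2 hg1) (U := ⊤)
      fun u _ => AddSubgroup.mem_top _
    rw [AddSubgroup.card_top, hn] at h
    have h63 : r ∣ 3 ^ 2 * 7 := (Nat.modEq_iff_dvd' (by norm_num)).1 h.symm
    rcases (Nat.Prime.dvd_mul hr).1 h63 with h' | h'
    · exact Or.inl ((Nat.prime_dvd_prime_iff_eq hr (by norm_num)).1 (hr.dvd_of_dvd_pow h'))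
    · exact Or.inr ((Nat.prime_dvd_prime_iff_eq hr (by norm_num)).1 h')
  have h49 : ¬ 7 ^ 2 ∣ Nat.card C := fun h => by
    have h1 := P.pow_dvd_card_of_pow_dvd_card (h.trans C.card_subgroup_dvd_card)
    rw [hcardP] at h1
    norm_num at h1
  -- a central element of order three
  obtain ⟨W⟩ : Nonempty (Sylow 3 C) := inferInstance
  haveI : Nontrivial (W : Subgroup C) := Finite.one_lt_card_iff_nontrivial.1
    (lt_of_lt_of_le (by norm_num) (Nat.le_of_dvd Nat.card_pos
      (W.pow_dvd_card_of_pow_dvd_card (n := 1) (by rw [pow_one]; exact h3C))))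
  haveI := W.isPGroup'.center_nontrivial
  obtain ⟨w, hw⟩ := exists_prime_orderOf_dvd_card' (G := Subgroup.center (W : Subgroup C)) 3
    (by
      obtain ⟨k, hk⟩ := (W.isPGroup'.to_subgroup (Subgroup.center (W : Subgroup C))).exists_card_eq
      rw [hk]
      refine dvd_pow_self 3 fun h => ?_
      rw [h, pow_zero] at hk
      exact (Finite.one_lt_card (α := Subgroup.center (W : Subgroup C))).ne' hk)
  set wC : C := ((w : (W : Subgroup C)) : C) with hwC
  have hwo : orderOf wC = 3 := by rw [hwC, Subgroup.orderOf_coe, Subgroup.orderOf_coe, hw]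
  let yC : C := ⟨y, Subgroup.mem_centralizer_singleton_iff.2 rfl⟩
  have hwcentral : ∀ c : C, c * wC = wC * c := by
    suffices h : (Subgroup.centralizer ({wC} : Set C)) = ⊤ from fun c =>
      Subgroup.mem_centralizer_singleton_iff.1 ((Subgroup.eq_top_iff' _).1 h c)
    rw [← Subgroup.index_eq_one]
    refine Nat.eq_one_iff_not_exists_prime_dvd.2 fun r hr hrK => ?_
    rcases hCprimes r hr (hrK.trans (Subgroup.index_dvd_card _)) with rfl | rfl
    · refine W.not_dvd_index (hrK.trans (Subgroup.index_dvd_of_le fun x hx => ?_))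
      exact Subgroup.mem_centralizer_singleton_iff.2
        (congrArg Subtype.val (Subgroup.mem_center_iff.1 w.2 ⟨x, hx⟩))
    · have hyK : Subgroup.zpowers yC ≤ Subgroup.centralizer ({wC} : Set C) :=
        Subgroup.zpowers_le.2 (Subgroup.mem_centralizer_singleton_iff.2
          (Subtype.ext (hCy wC wC.2).symm))
      refine h49 ?_
      rw [← (Subgroup.zpowers yC).card_mul_index, Nat.card_zpowers,
        show orderOf yC = 7 by rw [← hy]; exact (Subgroup.orderOf_mk y _), pow_two]
      exact mul_dvd_mul_left 7 (hrK.trans (Subgroup.index_dvd_of_le hyK))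
  set x : D := (wC : D) * y with hxdef
  have hwy : Commute (wC : D) y := hCy wC wC.2
  have hw3 : (wC : D) ^ 3 = 1 := by
    rw [← SubgroupClass.coe_pow, ← hwo, pow_orderOf_eq_one]; rfl
  have hw1 : (wC : D) ≠ 1 := fun h => by
    rw [← Subgroup.orderOf_coe, h, orderOf_one] at hwo
    norm_num at hwo
  have hwfix := hCfix _ wC.2 hw1
  have hirr : Irred E x := by
    intro U hU
    have hU' : ∀ b ∈ Subgroup.zpowers x, ∀ u ∈ U, b • u ∈ U := fun b hb => invariant_zpowers hU hb
    have hx7 : x ^ 7 = wC := by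
      rw [hxdef, hwy.mul_pow, h7 y hyP, mul_one, show (7 : ℕ) = 3 * 2 + 1 from rfl, pow_succ,
        pow_mul, hw3, one_pow, one_mul]
    have hx15 : x ^ 15 = y := by
      rw [hxdef, hwy.mul_pow, show (15 : ℕ) = 3 * 5 from rfl, pow_mul, hw3, one_pow, one_mul,
        show (3 * 5 : ℕ) = 7 * 2 + 1 from rfl, pow_succ, pow_mul, h7 y hyP, one_pow, one_mul]
    have hUw : ∀ u ∈ U, (wC : D) • u ∈ U :=
      hU' _ (hx7 ▸ Subgroup.pow_mem _ (Subgroup.mem_zpowers x) _)
    have hUy : ∀ u ∈ U, y • u ∈ U :=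
      hU' _ (hx15 ▸ Subgroup.pow_mem _ (Subgroup.mem_zpowers x) _)
    obtain ⟨k, hk, hkc⟩ := card_eq_two_pow hn U
    have h1 := card_modEq_one (E := E) (by norm_num : Nat.Prime 7) (h7 y hyP) hyfix hUy
    have h2 := card_modEq_one (E := E) (by norm_num : Nat.Prime 3) hw3 hwfix hUw
    rw [hkc, Nat.ModEq] at h1 h2
    refine eq_bot_or_top hn hkc ?_
    rcases two_pow_mod_seven hk h1 with rfl | rfl | rfl
    · exact Or.inl rfl
    · norm_num at h2
    · exact Or.inr rfl
  haveI hCc : IsCyclic C := isCyclic_of_irred hirr fun c hc => by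
    have h1 : c * (wC : D) = (wC : D) * c := congrArg Subtype.val (hwcentral ⟨c, hc⟩)
    rw [hxdef, ← mul_assoc, h1, mul_assoc, hCy c hc, ← mul_assoc]
  refine core htrans (by norm_num : Nat.Prime 7) hy (hPy ▸ hPn) hCc fun g hg => ?_
  exact hcomm g (mem_of_normal_sylow P hPn hg) y hyP

end Cfsg.Agent.TransLinear
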