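/-
Odd order groups transitive on the nonzero vectors of an elementary abelian group.
-/
import Cfsg.Agent.Lib.TransLinear.Six

set_option autoImplicit false
set_option linter.unusedSectionVars false
set_option linter.style.haveILetI false

namespace Cfsg.Agent.TransLinear

open Cfsg

variable {D E : Type*} [Group D] [Finite D] [AddCommGroup E] [Finite E] [Nontrivial E]
  [DistribMulAction D E] [FaithfulSMul D E]

/-- The order of a transitive group is a multiple of the number of nonzero vectors. -/
theorem sub_one_dvd_card (htrans : ∀ a b : E, a ≠ 0 → b ≠ 0 → ∃ d : D, d • a = b) :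
    Nat.card E - 1 ∣ Nat.card D := by
  classical
  obtain ⟨e, he⟩ := exists_ne (0 : E)
  have horb : MulAction.orbit D e = {(0 : E)}ᶜ := by
    ext x
    simp only [Set.mem_compl_iff, Set.mem_singleton_iff]
    constructor
    · rintro ⟨d, rfl⟩ h
      exact he ((smul_eq_zero_iff_eq d).1 h)
    · exact fun hx => htrans e x he hx
  have h := (MulAction.stabilizer D e).index_dvd_card
  rwa [MulAction.index_stabilizer, horb, Set.ncard_compl, Set.ncard_singleton] at h

/-- The structure of a group of odd order transitive on the nonzero vectors. -/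
theorem structure_of_transitive (hodd : Odd (Nat.card D)) {q : ℕ} (hq : q.Prime)
    (hE : ∀ e : E, q • e = 0) (htrans : ∀ a b : E, a ≠ 0 → b ≠ 0 → ∃ d : D, d • a = b) :
    IsCyclic ↥(Cfsg.fittingSubgroup D) ∧
      (∀ g ∈ Cfsg.fittingSubgroup D, g ≠ 1 → ∀ a : E, g • a = a → a = 0) ∧
      commutator D ≤ Cfsg.fittingSubgroup D := by
  obtain rfl := eq_two hodd hq hE htrans
  haveI : Fact (Nat.Prime 2) := ⟨Nat.prime_two⟩
  obtain ⟨n, hn⟩ : ∃ n, Nat.card E = 2 ^ n := by
    letI := AddCommGroup.zmodModule hE
    exact ⟨_, (FiniteField.pow_finrank_eq_natCard 2 E).symm⟩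
  have hdvd : 2 ^ n - 1 ∣ Nat.card D := hn ▸ sub_one_dvd_card htrans
  rcases Nat.lt_or_ge n 2 with hn2 | hn2
  · -- the group is trivial
    haveI : Subsingleton D := by
      refine ⟨fun x y => eq_of_smul_eq_smul (α := E) fun e => ?_⟩
      by_cases he : e = 0
      · rw [he, smul_zero, smul_zero]
      have hc : Nat.card E ≤ 2 := hn.le.trans
        ((Nat.pow_le_pow_right two_pos (by omega : n ≤ 1)).trans (pow_one 2).le)
      haveI : Fintype E := Fintype.ofFinite E
      classical
      have hall : ∀ u : E, u ≠ 0 → u = e := fun u hu => by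
        by_contra hne
        have h3 : ({0, e, u} : Finset E).card ≤ Fintype.card E := Finset.card_le_univ _
        have h4 : ({0, e, u} : Finset E).card = 3 := by
          rw [Finset.card_insert_of_notMem (by simp [Ne.symm he, Ne.symm hu]),
            Finset.card_insert_of_notMem (by simp [Ne.symm hne]), Finset.card_singleton]
        rw [← Nat.card_eq_fintype_card] at h3
        omega
      rw [hall _ fun h => he ((smul_eq_zero_iff_eq x).1 h),
        hall _ fun h => he ((smul_eq_zero_iff_eq y).1 h)]
    refine ⟨inferInstance, fun g _ hg => absurd (Subsingleton.elim g 1) hg, fun g _ => ?_⟩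
    rw [Subsingleton.elim g 1]
    exact one_mem _
  by_cases h6 : n = 6
  · subst h6
    exact six hodd hE htrans hn (by simpa using hdvd)
  obtain ⟨t, ht, htn, hppd⟩ := Cfsg.Agent.S2904.result 2 n one_lt_two (by omega)
    (fun h => h6 h.2) (fun ⟨_, m, hm⟩ => by
      rcases Nat.eq_zero_or_pos m with rfl | hm0
      · norm_num at hm
      · have := dvd_pow_self 2 hm0.ne'
        omega)
  exact generic hodd hE htrans hn hn2 hdvd ht htn hppd

end Cfsg.Agent.TransLinear
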