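/-
Consequences of the structure theorem: the centraliser of the Fitting subgroup and the point
stabilisers.
-/
import Cfsg.Agent.Lib.TransLinear.Basic
import Mathlib.FieldTheory.Finite.Basic

set_option autoImplicit false
set_option linter.unusedSectionVars false
set_option linter.style.haveILetI false

namespace Cfsg.Agent.TransLinear

open Cfsg
open scoped commutatorElement

/-- If the derived subgroup lies in the cyclic Fitting subgroup then the latter contains its
centraliser. -/
theorem centralizer_fitting_le_of_derived {D : Type*} [Group D] [Finite D]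
    (hder : commutator D ≤ Cfsg.fittingSubgroup D) :
    Subgroup.centralizer (Cfsg.fittingSubgroup D : Set D) ≤ Cfsg.fittingSubgroup D := by
  set C : Subgroup D := Subgroup.centralizer (Cfsg.fittingSubgroup D : Set D) with hC
  haveI := FittingCores.fitting_normal (G := D)
  have hCn : C.Normal := Subgroup.normal_centralizer
  refine FittingCores.le_fitting hCn ?_
  have hcc : ∀ a b : C, ⁅a, b⁆ ∈ Subgroup.center C := fun a b => by
    have h1 : ((⁅a, b⁆ : C) : D) ∈ Cfsg.fittingSubgroup D := by
      rw [show ((⁅a, b⁆ : C) : D) = ⁅(a : D), (b : D)⁆ from rfl]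
      refine hder ?_
      rw [commutator_def]
      exact Subgroup.commutator_mem_commutator (Subgroup.mem_top _) (Subgroup.mem_top _)
    exact Subgroup.mem_center_iff.2 fun c => Subtype.ext
      (Subgroup.mem_centralizer_iff.1 c.2 _ h1).symm
  refine Group.of_quotient_center_nilpotent ?_
  letI : CommGroup (C ⧸ Subgroup.center C) :=
    { (inferInstance : Group (C ⧸ Subgroup.center C)) with
      mul_comm := fun x y => by
        obtain ⟨a, rfl⟩ := QuotientGroup.mk_surjective x
        obtain ⟨b, rfl⟩ := QuotientGroup.mk_surjective y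
        rw [← QuotientGroup.mk_mul, ← QuotientGroup.mk_mul]
        refine QuotientGroup.eq.2 ?_
        have h : (a * b)⁻¹ * (b * a) = ⁅b⁻¹, a⁻¹⁆ := by rw [commutatorElement_def]; group
        rw [h]
        exact hcc _ _ }
  exact CommGroup.isNilpotent

variable {D E : Type*} [Group D] [Finite D] [AddCommGroup E] [Finite E] [Nontrivial E]
  [DistribMulAction D E] [FaithfulSMul D E]

/-- A stabiliser in a group with a normal cyclic transitive subgroup is cyclic. -/
theorem isCyclic_stabilizer (hE : ∀ e : E, 2 • e = 0) (F : Subgroup D) [hFn : F.Normal] [IsCyclic F]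
    (hFt : ∀ a b : E, a ≠ 0 → b ≠ 0 → ∃ d ∈ F, d • a = b) {s : E} (hs : s ≠ 0) {V : Subgroup D}
    (hV : ∀ v ∈ V, v • s = s) : IsCyclic V := by
  classical
  letI : CommGroup F := IsCyclic.commGroup
  haveI : Finite (AddMonoid.End E) :=
    Finite.of_injective (fun f => (f : E → E)) DFunLike.coe_injective
  let ι := DistribMulAction.toAddMonoidEnd D E
  let R : Subring (AddMonoid.End E) := Subring.centralizer (ι '' (F : Set D))
  have hR : ∀ {r : AddMonoid.End E}, r ∈ R ↔ ∀ f ∈ F, ∀ e : E, f • r e = r (f • e) := by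
    intro r
    rw [Subring.mem_centralizer_iff]
    constructor
    · intro h f hf e
      exact DFunLike.congr_fun (h _ ⟨f, hf, rfl⟩) e
    · rintro h _ ⟨f, hf, rfl⟩
      exact AddMonoidHom.ext (h f hf)
  have hdet : ∀ r : R, (r : AddMonoid.End E) s = 0 → r = 0 := by
    intro r hr
    refine Subtype.ext (AddMonoidHom.ext fun e => ?_)
    show (r : AddMonoid.End E) e = 0
    by_cases he : e = 0
    · rw [he]; exact map_zero _
    obtain ⟨f, hf, rfl⟩ := hFt s e hs he
    rw [← hR.1 r.2 f hf, hr, smul_zero]
  haveI : Nontrivial R := ⟨0, 1, fun h => hs (DFunLike.congr_fun (congrArg Subtype.val h) s).symm⟩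
  haveI : NoZeroDivisors R := ⟨fun {r r'} h => by
    by_cases hr' : r' = 0
    · exact Or.inr hr'
    refine Or.inl (Subtype.ext (AddMonoidHom.ext fun e => ?_))
    show (r : AddMonoid.End E) e = 0
    by_cases he : e = 0
    · rw [he]; exact map_zero _
    obtain ⟨f, hf, hfe⟩ := hFt ((r' : AddMonoid.End E) s) e (fun h0 => hr' (hdet r' h0)) he
    rw [← hfe, hR.1 r'.2 f hf]
    exact DFunLike.congr_fun (congrArg Subtype.val h) (f • s)⟩
  haveI : IsDomain R := NoZeroDivisors.to_isDomain R
  letI : Field R := (Finite.isDomain_to_isField R).toField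
  haveI : CharP R 2 := CharTwo.of_one_ne_zero_of_two_eq_zero one_ne_zero (by
    refine Subtype.ext (AddMonoidHom.ext fun e => ?_)
    rw [← one_add_one_eq_two]
    show e + e = 0
    rw [← two_nsmul, hE])
  have hcinv : ∀ (v : D) (r : AddMonoid.End E), r ∈ R → ι v * r * ι v⁻¹ ∈ R := by
    intro v r hr
    refine hR.2 fun f hf e => ?_
    show f • v • r (v⁻¹ • e) = v • r (v⁻¹ • f • e)
    have h1 : f • v • r (v⁻¹ • e) = v • (v⁻¹ * f * v) • r (v⁻¹ • e) := by
      rw [← mul_smul, ← mul_smul]
      congr 1
      group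
    rw [h1, hR.1 hr _ (by simpa using hFn.conj_mem f hf v⁻¹), ← mul_smul, ← mul_smul]
    congr 3
    group
  have hvv : ∀ v : D, ι v * ι v⁻¹ = 1 ∧ ι v⁻¹ * ι v = 1 := fun v =>
    ⟨by rw [← map_mul, mul_inv_cancel, map_one], by rw [← map_mul, inv_mul_cancel, map_one]⟩
  let ψ : D →* (R ≃+* R) :=
    { toFun := fun v =>
        { toFun := fun r => ⟨ι v * (r : AddMonoid.End E) * ι v⁻¹, hcinv v r r.2⟩
          invFun := fun r => ⟨ι v⁻¹ * (r : AddMonoid.End E) * ι v, by
            have h := hcinv v⁻¹ r r.2
            rwa [inv_inv] at h⟩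
          left_inv := fun r => Subtype.ext (by
            show ι v⁻¹ * (ι v * (r : AddMonoid.End E) * ι v⁻¹) * ι v = r
            simp only [← mul_assoc, (hvv v).2, one_mul]
            rw [mul_assoc, (hvv v).2, mul_one])
          right_inv := fun r => Subtype.ext (by
            show ι v * (ι v⁻¹ * (r : AddMonoid.End E) * ι v) * ι v⁻¹ = r
            simp only [← mul_assoc, (hvv v).1, one_mul]
            rw [mul_assoc, (hvv v).1, mul_one])
          map_mul' := fun r r' => Subtype.ext (by
            show ι v * ((r : AddMonoid.End E) * r') * ι v⁻¹ =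
              ι v * (r : AddMonoid.End E) * ι v⁻¹ * (ι v * (r' : AddMonoid.End E) * ι v⁻¹)
            rw [show ι v * (r : AddMonoid.End E) * ι v⁻¹ * (ι v * (r' : AddMonoid.End E) * ι v⁻¹) =
              ι v * (r : AddMonoid.End E) * (ι v⁻¹ * ι v) * r' * ι v⁻¹ by simp only [mul_assoc],
              (hvv v).2, mul_one]
            simp only [mul_assoc])
          map_add' := fun r r' => Subtype.ext (by
            show ι v * ((r : AddMonoid.End E) + r') * ι v⁻¹ = _
            rw [mul_add, add_mul]
            rfl) }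
      map_one' := RingEquiv.ext fun r => Subtype.ext (by
        show ι 1 * (r : AddMonoid.End E) * ι (1⁻¹ : D) = r
        rw [inv_one, map_one, one_mul, mul_one])
      map_mul' := fun v w => RingEquiv.ext fun r => Subtype.ext (by
        show ι (v * w) * (r : AddMonoid.End E) * ι (v * w)⁻¹ =
          ι v * (ι w * (r : AddMonoid.End E) * ι w⁻¹) * ι v⁻¹
        rw [mul_inv_rev, map_mul, map_mul]
        simp only [mul_assoc]) }
  letI : Algebra (ZMod 2) R := ZMod.algebra R 2
  haveI : Fact (Nat.Prime 2) := ⟨Nat.prime_two⟩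
  let e : Gal(R/ZMod 2) ≃* (R ≃+* R) :=
    { toFun := fun σ => σ.toRingEquiv
      invFun := fun σ => AlgEquiv.ofRingEquiv (f := σ) fun x =>
        RingHom.congr_fun (RingHom.ext_zmod (σ.toRingHom.comp (algebraMap (ZMod 2) R))
          (algebraMap (ZMod 2) R)) x
      left_inv := fun σ => AlgEquiv.ext fun _ => rfl
      right_inv := fun σ => RingEquiv.ext fun _ => rfl
      map_mul' := fun σ τ => rfl }
  refine isCyclic_of_injective (f := e.symm.toMonoidHom.comp (ψ.comp V.subtype)) fun v w hvw => ?_
  have h1 : ψ v = ψ w := e.symm.injective hvw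
  -- `u` commutes with `F` and fixes `s`
  have h2 : ψ ((w : D)⁻¹ * v) = 1 := by rw [map_mul, h1, ← map_mul, inv_mul_cancel, map_one]
  set u : D := (w : D)⁻¹ * v with hu
  have husfix : u • s = s := hV _ (V.mul_mem (V.inv_mem w.2) v.2)
  have huF : ∀ f ∈ F, u * f * u⁻¹ = f := by
    intro f hf
    have hfR : ι f ∈ R := hR.2 fun g hg e => by
      show g • f • e = f • g • e
      rw [← mul_smul, ← mul_smul,
        show g * f = f * g from congrArg Subtype.val (mul_comm (⟨g, hg⟩ : F) ⟨f, hf⟩)]
    have h3 : ι u * ι f * ι u⁻¹ = ι f := congrArg Subtype.val (RingEquiv.congr_fun h2 ⟨ι f, hfR⟩)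
    refine eq_of_smul_eq_smul (α := E) fun e => ?_
    rw [mul_smul, mul_smul]
    exact DFunLike.congr_fun h3 e
  have hu1 : u = 1 := eq_of_smul_eq_smul (α := E) fun e => by
    rw [one_smul]
    by_cases he : e = 0
    · rw [he, smul_zero]
    obtain ⟨f, hf, rfl⟩ := hFt s e hs he
    rw [← mul_smul, show u * f = f * u from mul_inv_eq_iff_eq_mul.1 (huF f hf), mul_smul, husfix]
  exact Subtype.ext (inv_mul_eq_one.1 hu1).symm

end Cfsg.Agent.TransLinear
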