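import Mathlib
import Cfsg.Prelude.Def_CaseTheorems
import Cfsg.Agent.Lib.LinearBlock.MonThree
import Cfsg.Agent.Lib.Sims.Shift

/-!
Groups of prime power order that are transitive on the non-zero vectors of a finite space.
-/

set_option autoImplicit false
set_option linter.style.haveILetI false

namespace Cfsg.Agent.PGroupTrans

open Subgroup

/-- A prime power one less than a power of two is a prime. -/
theorem exp_eq_one {p k n : ℕ} (hp : p.Prime) (hn : 2 ≤ n) (h : p ^ k + 1 = 2 ^ n) : k = 1 := by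
  have hodd : Odd p := by
    rcases hp.eq_two_or_odd' with rfl | h'
    · exfalso
      rcases Nat.eq_zero_or_pos k with rfl | hk
      · have := Nat.pow_le_pow_right (show 0 < 2 by norm_num) hn
        simp at h; omega
      · have h1 : 2 ∣ 2 ^ k := dvd_pow_self 2 hk.ne'
        have h2 : 2 ∣ 2 ^ n := dvd_pow_self 2 (by omega)
        omega
    · exact h'
  have h4 : 4 ∣ 2 ^ n := Nat.pow_dvd_pow 2 hn
  rcases Nat.even_or_odd k with ⟨m, rfl⟩ | hk
  · exfalso
    rw [pow_add] at h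
    obtain ⟨t, ht⟩ := (hodd.pow : Odd (p ^ m))
    rw [ht] at h
    obtain ⟨s, hs⟩ := h4
    rw [show (2 * t + 1) * (2 * t + 1) + 1 = 4 * (t * t + t) + 2 by ring] at h
    omega
  · have hd : p + 1 ∣ p ^ k + 1 := by simpa using hk.nat_add_dvd_pow_add_pow p 1
    obtain ⟨a, ha, hpa⟩ := (Nat.dvd_prime_pow Nat.prime_two).1 (h ▸ hd)
    obtain ⟨m, rfl⟩ := hk
    have key : ((p : ℤ) + 1) * ∑ i ∈ Finset.range (2 * m + 1), (-(p : ℤ)) ^ i =
        (p : ℤ) ^ (2 * m + 1) + 1 := by
      have h1 := geom_sum_mul (-(p : ℤ)) (2 * m + 1)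
      have h2 : (-(p : ℤ)) ^ (2 * m + 1) = -((p : ℤ) ^ (2 * m + 1)) :=
        Odd.neg_pow ⟨m, rfl⟩ _
      rw [h2] at h1
      linarith [h1]
    set s := ∑ i ∈ Finset.range (2 * m + 1), (-(p : ℤ)) ^ i with hs
    have hsodd : Odd s := by
      have h2 : ((2 * m + 1 : ℕ) : ZMod 2) = 1 := by
        push_cast; rw [show (2 : ZMod 2) = 0 from rfl]; ring
      have hp2 : ((p : ℤ) : ZMod 2) = 1 := by
        obtain ⟨t, rfl⟩ := hodd
        push_cast; rw [show (2 : ZMod 2) = 0 from rfl]; ring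
      rw [← Int.not_even_iff_odd, even_iff_two_dvd, show ((2 : ℤ) = ((2 : ℕ) : ℤ)) from rfl,
        ← ZMod.intCast_zmod_eq_zero_iff_dvd s 2, hs]
      push_cast at hp2 ⊢
      rw [Finset.sum_congr rfl (fun i _ => show (-(p : ZMod 2)) ^ i = 1 by
        rw [hp2]; simp [show (-1 : ZMod 2) = 1 from rfl])]
      simp [show (2 : ZMod 2) = 0 from rfl]
    by_contra hm
    have hlt : (p : ℤ) + 1 < (p : ℤ) ^ (2 * m + 1) + 1 := by
      have : p ^ 1 < p ^ (2 * m + 1) := Nat.pow_lt_pow_right hp.one_lt (by omega)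
      rw [pow_one] at this
      exact_mod_cast Nat.add_lt_add_right this 1
    have hsn : (p : ℤ) ^ (2 * m + 1) + 1 = 2 ^ n := by exact_mod_cast h
    have hpa' : (p : ℤ) + 1 = 2 ^ a := by exact_mod_cast hpa
    rw [hsn, hpa', show n = a + (n - a) by omega, pow_add] at key
    have hs2 := mul_left_cancel₀ (pow_ne_zero a two_ne_zero) key
    rcases Nat.eq_zero_or_pos (n - a) with h0 | h0
    · rw [hsn, hpa', show n = a by omega] at hlt
      exact lt_irrefl _ hlt
    · rw [hs2] at hsodd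
      exact Int.not_even_iff_odd.2 hsodd ((Int.even_pow).2 ⟨by decide, h0.ne'⟩)

/-- An odd prime power one more than a power of two is a prime or nine. -/
theorem cases_two {q n k : ℕ} (hq : Odd q) (hq3 : 3 ≤ q) (hn : 1 ≤ n) (h : q ^ n = 2 ^ k + 1) :
    n = 1 ∨ (n = 2 ∧ q = 3) := by
  rcases Nat.even_or_odd n with ⟨m, rfl⟩ | hodd
  · right
    rw [pow_add] at h
    obtain ⟨t, ht⟩ : Odd (q ^ m) := hq.pow
    rw [ht] at h
    have h1 : 4 * (t * (t + 1)) = 2 ^ k := by nlinarith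
    have h2 : t * (t + 1) ∣ 2 ^ k := Dvd.intro_left _ h1
    obtain ⟨i, -, hi⟩ := (Nat.dvd_prime_pow Nat.prime_two).1 ((Dvd.intro _ rfl).trans h2)
    obtain ⟨j, -, hj⟩ := (Nat.dvd_prime_pow Nat.prime_two).1 ((Dvd.intro_left _ rfl).trans h2)
    have ht1 : t = 1 := by
      rcases Nat.eq_zero_or_pos i with rfl | hi0
      · simpa using hi
      · have e1 : 2 ∣ t := hi ▸ dvd_pow_self 2 hi0.ne'
        rcases Nat.eq_zero_or_pos j with rfl | hj0
        · simp at hj; subst hj
          have := Nat.two_pow_pos k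
          omega
        · have e2 : 2 ∣ t + 1 := hj ▸ dvd_pow_self 2 hj0.ne'
          omega
    subst ht1
    norm_num at ht
    have hm : m = 1 := by
      by_contra hm1
      rcases Nat.eq_zero_or_pos m with rfl | hm0
      · simp at ht
      · have : q ^ 2 ≤ q ^ m := Nat.pow_le_pow_right (by omega) (by omega)
        have : 9 ≤ q ^ 2 := by nlinarith
        omega
    subst hm
    exact ⟨rfl, by simpa using ht⟩
  · left
    obtain ⟨m, rfl⟩ := hodd
    have key : ((q : ℤ) - 1) * ∑ i ∈ Finset.range (2 * m + 1), (q : ℤ) ^ i = 2 ^ k := by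
      have h1 := geom_sum_mul (q : ℤ) (2 * m + 1)
      have h2 : (q : ℤ) ^ (2 * m + 1) = 2 ^ k + 1 := by exact_mod_cast h
      rw [mul_comm, h1, h2]; ring
    set s := ∑ i ∈ Finset.range (2 * m + 1), q ^ i with hs
    have hkey : (q - 1) * s = 2 ^ k := by
      have : (((q - 1) * s : ℕ) : ℤ) = ((2 ^ k : ℕ) : ℤ) := by
        rw [hs]; push_cast [Nat.cast_sub (show 1 ≤ q by omega)]; exact key
      exact_mod_cast this
    have hsodd : Odd s := by
      rw [hs, ← Nat.not_even_iff_odd, even_iff_two_dvd, ← ZMod.natCast_eq_zero_iff]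
      have hq2 : (q : ZMod 2) = 1 := by
        obtain ⟨t, rfl⟩ := hq
        push_cast; rw [show (2 : ZMod 2) = 0 from rfl]; ring
      push_cast
      rw [hq2]; simp [show (2 : ZMod 2) = 0 from rfl]
    obtain ⟨i, -, hi⟩ := (Nat.dvd_prime_pow Nat.prime_two).1 (Dvd.intro_left _ hkey : s ∣ 2 ^ k)
    have hs1 : s = 1 := by
      rcases Nat.eq_zero_or_pos i with rfl | hi0
      · simpa using hi
      · obtain ⟨t, ht⟩ := hsodd
        have : 2 ∣ s := hi ▸ dvd_pow_self 2 hi0.ne'
        omega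
    by_contra hm
    have h2 : ∑ i ∈ Finset.range 2, q ^ i ≤ s :=
      Finset.sum_le_sum_of_subset (Finset.range_mono (by omega))
    simp [Finset.sum_range_succ] at h2
    omega

variable {q : ℕ} [Fact q.Prime] {V : Type*} [AddCommGroup V] [Module (ZMod q) V] [Finite V]
  [Nontrivial V] {G : Type*} [Group G] [Finite G] {p : ℕ} [Fact p.Prime]

/-- Conjugation by a coordinate map. -/
noncomputable def toGL {n : ℕ} (B : V ≃ₗ[ZMod q] (Fin n → ZMod q)) :
    (V ≃ₗ[ZMod q] V) ≃* GL (Fin n) (ZMod q) :=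
  ({ toFun := fun f => B.symm.trans (f.trans B)
     invFun := fun f => B.trans (f.trans B.symm)
     left_inv := fun f => by ext; simp
     right_inv := fun f => by ext; simp
     map_mul' := fun f g => by ext; simp } :
    (V ≃ₗ[ZMod q] V) ≃* ((Fin n → ZMod q) ≃ₗ[ZMod q] (Fin n → ZMod q))).trans
  ((LinearMap.GeneralLinearGroup.generalLinearEquiv _ _).symm.trans
    Matrix.GeneralLinearGroup.toLin.symm)

theorem card_dvd (ρ : G →* (V ≃ₗ[ZMod q] V)) (hρ : Function.Injective ρ) :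
    Nat.card G ∣ Nat.card (GL (Fin (Module.finrank (ZMod q) V)) (ZMod q)) :=
  Subgroup.card_dvd_of_injective ((toGL (Module.finBasis (ZMod q) V).equivFun).toMonoidHom.comp ρ)
    ((toGL _).injective.comp hρ)

theorem orbit_data (ρ : G →* (V ≃ₗ[ZMod q] V))
    (htrans : ∀ v w : V, v ≠ 0 → w ≠ 0 → ∃ g : G, ρ g v = w) {v : V} (hv : v ≠ 0) :
    ∃ H : Subgroup G, (∀ g, g ∈ H ↔ ρ g v = v) ∧ Nat.card H * (Nat.card V - 1) = Nat.card G := by
  letI : MulAction G V :=
    { smul := fun g x => ρ g x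
      one_smul := fun x => show ρ 1 x = x by rw [map_one]; rfl
      mul_smul := fun g h x => show ρ (g * h) x = ρ g (ρ h x) by rw [map_mul]; rfl }
  refine ⟨MulAction.stabilizer G v, fun g => Iff.rfl, ?_⟩
  have ho : MulAction.orbit G v = {w : V | w ≠ 0} := by
    ext w
    refine ⟨?_, fun hw => htrans v w hv hw⟩
    rintro ⟨g, rfl⟩ h
    exact hv ((ρ g).map_eq_zero_iff.1 h)
  have hc : Nat.card (MulAction.orbit G v) = Nat.card V - 1 := by
    rw [ho, Nat.card_coe_set_eq, show {w : V | w ≠ 0} = ({0} : Set V)ᶜ from rfl, Set.ncard_compl,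
      Set.ncard_singleton]
  rw [← hc, Nat.card_congr (MulAction.orbitEquivQuotientStabilizer G v), ← Subgroup.index,
    Subgroup.card_mul_index]

/-- The two generators of a Sylow subgroup of `GL(2, 3)`. -/
def gx : GL (Fin 2) (ZMod 3) :=
  ⟨!![1, 1; 1, 0], !![0, 1; 1, 2], by decide, by decide⟩

/-- The second generator. -/
def gy : GL (Fin 2) (ZMod 3) :=
  ⟨!![1, 2; 0, 2], !![1, 2; 0, 2], by decide, by decide⟩

theorem quasiDihedral_of_sixteen {H : Subgroup (GL (Fin 2) (ZMod 3))} (hH : Nat.card H = 16) :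
    Cfsg.IsQuasiDihedral ↥H := by
  haveI : Fact (Nat.Prime 2) := ⟨Nat.prime_two⟩
  haveI : Fact (Nat.Prime 3) := ⟨Nat.prime_three⟩
  have hox : orderOf gx = 2 ^ 3 := orderOf_eq_prime_pow (p := 2) (n := 2) (by decide) (by decide)
  have hoy : orderOf gy = 2 := orderOf_eq_prime (by decide) (by decide)
  have hr : gy * gx * gy⁻¹ = gx ^ (2 ^ (3 - 1) - 1) := by decide
  have hnx : ∀ i : Fin 8, gy ≠ gx ^ (i : ℕ) := by decide
  set X := zpowers gx with hX
  set Y := zpowers gy with hY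
  have hn : Y ≤ normalizer (X : Set (GL (Fin 2) (ZMod 3))) := by
    refine zpowers_le.2 (mem_normalizer_iff_map_conj_eq.2 (eq_of_le_of_card_ge ?_ ?_))
    · rw [hX, MonoidHom.map_zpowers, zpowers_le]
      show gy * gx * gy⁻¹ ∈ zpowers gx
      rw [hr]; exact npow_mem_zpowers _ _
    · exact (card_map_of_injective (MulEquiv.injective _)).ge
  have hdisj : Disjoint X Y := by
    rw [disjoint_iff, eq_bot_iff]
    rintro z ⟨h1, h2⟩
    obtain ⟨j, hj, rfl⟩ := (mem_zpowers_iff_mem_range_orderOf (x := gy)).1 h2 |> fun h => by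
      simpa using h
    rw [hoy] at hj
    interval_cases j
    · simp
    · exfalso
      obtain ⟨i, hi, he⟩ := (mem_zpowers_iff_mem_range_orderOf (x := gx)).1 h1 |> fun h => by
        simpa using h
      rw [hox] at hi
      exact hnx ⟨i, by omega⟩ (by simpa using he.symm)
  have hK : Nat.card ↥(X ⊔ Y) = 16 := by
    have h1 := Sims.card_mul_card_le (le_sup_left : X ≤ X ⊔ Y) (le_sup_right : Y ≤ X ⊔ Y)
    rw [disjoint_iff.1 hdisj, Subgroup.card_bot, mul_one] at h1
    have h2 : Nat.card ↥(X ⊔ Y) ≤ Nat.card X * Nat.card Y := by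
      rw [← SetLike.coe_sort_coe, coe_mul_of_right_le_normalizer_left _ _ hn]
      exact Set.natCard_mul_le
    rw [hX, hY, Nat.card_zpowers, Nat.card_zpowers, hox, hoy] at h1 h2
    rw [hX, hY]
    omega
  have hG : Nat.card (GL (Fin 2) (ZMod 3)) = 2 ^ 4 * 3 := by
    rw [Matrix.card_GL_field, ZMod.card]
    simp [Fin.prod_univ_two]
  have hfac : (Nat.card (GL (Fin 2) (ZMod 3))).factorization 2 = 4 := by
    rw [hG, Nat.factorization_mul (by norm_num) (by norm_num), Finsupp.add_apply,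
      Nat.prime_two.factorization_pow, Nat.prime_three.factorization]
    simp
  let P₁ : Sylow 2 (GL (Fin 2) (ZMod 3)) := Sylow.ofCard (X ⊔ Y) (by rw [hfac, hK]; rfl)
  let P₂ : Sylow 2 (GL (Fin 2) (ZMod 3)) := Sylow.ofCard H (by rw [hfac, hH]; rfl)
  obtain ⟨e⟩ : Nonempty (↥(X ⊔ Y) ≃* ↥H) := ⟨P₁.equiv P₂⟩
  have hxm : gx ∈ X ⊔ Y := mem_sup_left (mem_zpowers _)
  have hym : gy ∈ X ⊔ Y := mem_sup_right (mem_zpowers _)
  refine ⟨3, le_rfl, by rw [hH]; rfl, e ⟨gx, hxm⟩, e ⟨gy, hym⟩, ?_, ?_, ?_⟩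
  · rw [MulEquiv.orderOf_eq, Subgroup.orderOf_mk, hox]
  · rw [MulEquiv.orderOf_eq, Subgroup.orderOf_mk, hoy]
  · rw [← map_inv, ← map_mul, ← map_mul, ← map_pow]
    exact congrArg e (Subtype.ext hr)

theorem main (hG : IsPGroup p G) [Nontrivial G] (ρ : G →* (V ≃ₗ[ZMod q] V))
    (hρ : Function.Injective ρ) (htrans : ∀ v w : V, v ≠ 0 → w ≠ 0 → ∃ g : G, ρ g v = w) :
    (q = 2 ∧ p = Nat.card V - 1 ∧ Nat.card G = p) ∨
    (p = 2 ∧ Nat.card V = q ∧ (∃ m : ℕ, q = 2 ^ m + 1 ∧ Nat.card G = 2 ^ m) ∧ IsCyclic G) ∨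
    (p = 2 ∧ q = 3 ∧ Nat.card V = 9 ∧
      ((IsCyclic G ∧ Nat.card G = 8) ∨ Nonempty (G ≃* QuaternionGroup 2) ∨
        (Cfsg.IsQuasiDihedral G ∧ Nat.card G = 16))) := by
  have hq : q.Prime := Fact.out
  have hp : p.Prime := Fact.out
  set n := Module.finrank (ZMod q) V with hn
  have hn1 : 1 ≤ n := Module.finrank_pos
  have hV : Nat.card V = q ^ n := by
    rw [Module.natCard_eq_pow_finrank (K := ZMod q), Nat.card_zmod]
  have hV2 : 2 ≤ q ^ n := le_trans hq.two_le (Nat.le_self_pow (by omega) q)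
  obtain ⟨v, hv⟩ := exists_ne (0 : V)
  obtain ⟨H, hH, hcard⟩ := orbit_data ρ htrans hv
  obtain ⟨j, hj⟩ := IsPGroup.iff_card.1 hG
  obtain ⟨k, -, hk⟩ := (Nat.dvd_prime_pow hp).1 (hj ▸ Dvd.intro_left _ hcard)
  rw [hV] at hk
  have hj0 : j ≠ 0 := fun h => by
    have := Finite.one_lt_card (α := G)
    rw [hj, h, pow_zero] at this
    omega
  have hGL := card_dvd ρ hρ
  rw [← hn, Matrix.card_GL_field, ZMod.card] at hGL
  rcases hq.eq_two_or_odd' with rfl | hqo
  · -- characteristic two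
    have hn2 : 2 ≤ n := by
      by_contra h
      have h1 : n = 1 := by omega
      rw [h1] at hGL
      simp [hj] at hGL
      rcases hGL with h | h
      · exact hp.ne_one h
      · exact hj0 h
    have hk1 := exp_eq_one hp hn2 (by omega : p ^ k + 1 = 2 ^ n)
    subst hk1
    rw [pow_one] at hk
    refine Or.inl ⟨rfl, by rw [hV, hk], ?_⟩
    have key : ∀ i ∈ Finset.univ.erase (⟨0, by omega⟩ : Fin n), Nat.Coprime p (2 ^ n - 2 ^ (i : ℕ)) := by
      intro i hi
      have hi0 : 0 < (i : ℕ) := Nat.pos_of_ne_zero fun h => Finset.ne_of_mem_erase hi (Fin.ext h)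
      rw [hp.coprime_iff_not_dvd]
      intro hd
      rw [show 2 ^ n - 2 ^ (i : ℕ) = 2 ^ (i : ℕ) * (2 ^ (n - i) - 1) by
        rw [Nat.mul_sub, ← pow_add, Nat.add_sub_cancel' i.2.le, mul_one]] at hd
      rcases hp.dvd_mul.1 hd with h | h
      · have h2 := (Nat.prime_dvd_prime_iff_eq hp Nat.prime_two).1 (hp.dvd_of_dvd_pow h)
        have : 2 ∣ 2 ^ n := dvd_pow_self 2 (by omega)
        omega
      · have h1 : 2 ^ (n - i) < 2 ^ n := Nat.pow_lt_pow_right (by norm_num) (by omega)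
        have h2 : 2 ^ 1 ≤ 2 ^ (n - i) := Nat.pow_le_pow_right (by norm_num) (by have := i.2; omega)
        have h3 := Nat.le_of_dvd (by omega) h
        omega
    rw [← Finset.mul_prod_erase _ _ (Finset.mem_univ (⟨0, by omega⟩ : Fin n))] at hGL
    simp only [pow_zero, hk, hj] at hGL
    have h1 : p ^ j ∣ p :=
      ((Nat.Coprime.prod_right key).pow_left j).dvd_of_dvd_mul_right hGL
    have h2 : j ≤ 1 := (Nat.pow_dvd_pow_iff_le_right hp.one_lt).1 (by rwa [pow_one])
    rw [hj, show j = 1 by omega, pow_one]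
  right
  have hq3 : 3 ≤ q := by
    have := hq.two_le
    obtain ⟨t, rfl⟩ := hqo
    omega
  have hp2 : p = 2 := by
    have heven : 2 ∣ p ^ k := by
      rw [← hk]
      obtain ⟨t, ht⟩ : Odd (q ^ n) := hqo.pow
      rw [ht]; exact ⟨t, by omega⟩
    exact ((Nat.prime_dvd_prime_iff_eq Nat.prime_two hp).1 (Nat.prime_two.dvd_of_dvd_pow heven)).symm
  subst hp2
  rcases cases_two hqo hq3 hn1 (by omega : q ^ n = 2 ^ k + 1) with h1 | ⟨h2, rfl⟩
  · -- one dimension
    left
    rw [h1, pow_one] at hV hk hV2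
    have hscal : ∀ g : G, ∃ a : ZMod q, ρ g v = a • v := fun g => by
      obtain ⟨a, ha⟩ := exists_smul_eq_of_finrank_eq_one (hn ▸ h1) hv (ρ g v)
      exact ⟨a, ha.symm⟩
    choose a ha using hscal
    have hinj : ∀ c c' : ZMod q, c • v = c' • v → c = c' := fun c c' h => smul_left_injective _ hv h
    have hlin : ∀ g x, ρ g x = a g • x := fun g x => by
      obtain ⟨c, rfl⟩ := exists_smul_eq_of_finrank_eq_one (hn ▸ h1) hv x
      rw [map_smul, ha, smul_comm]
    let f : G →* ZMod q :=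
      { toFun := a
        map_one' := hinj _ _ (by rw [← ha, map_one, one_smul]; rfl)
        map_mul' := fun g g' => hinj _ _ (by
          rw [← ha, map_mul, mul_smul, ← ha g', ← hlin]; rfl) }
    have hf : Function.Injective f := fun g g' e => hρ (LinearEquiv.ext fun x => by
      rw [hlin, hlin]; exact congrArg (· • x) e)
    have hcyc : IsCyclic G := isCyclic_of_injective_ringHom f hf
    have hG2 : Nat.card G = 2 ^ k := by
      refine Nat.dvd_antisymm ?_ ?_
      · rw [h1] at hGL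
        simp [hk] at hGL
        exact hGL
      · rw [← hk, ← hV]; exact Dvd.intro_left _ hcard
    exact ⟨rfl, hV, ⟨k, by omega, hG2⟩, hcyc⟩
  · -- the plane over three elements
    right
    rw [h2] at hV hk
    norm_num at hV
    refine ⟨rfl, rfl, hV, ?_⟩
    rw [h2] at hGL
    simp [Fin.prod_univ_two] at hGL
    rw [hj] at hGL
    have h16 : Nat.card G ∣ 16 := hj ▸
      Nat.Coprime.dvd_of_dvd_mul_right (Nat.Coprime.pow_left j (by norm_num : Nat.Coprime 2 3))
        (show 2 ^ j ∣ 16 * 3 by simpa using hGL)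
    rw [hV] at hcard
    have h8 : Nat.card G = 8 ∨ Nat.card G = 16 := by
      have := Nat.le_of_dvd (by norm_num) h16
      have := Nat.card_pos (α := H)
      have : Nat.card H ≤ 2 := by omega
      omega
    rcases h8 with h8 | h16'
    · have hfree : ∀ (g : G) (w : V), w ≠ 0 → ρ g w = w → g = 1 := fun g w hw hgw => by
        obtain ⟨H', hH', hc'⟩ := orbit_data ρ htrans hw
        rw [hV, h8] at hc'
        have : H' = ⊥ := Subgroup.eq_bot_of_card_eq _ (by omega)
        exact Subgroup.mem_bot.1 (this ▸ (hH' g).2 hgw)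
      have hu : ∀ x y : G, x ≠ 1 → y ≠ 1 → x ^ 2 = 1 → y ^ 2 = 1 → x = y := by
        have hneg : ∀ x : G, x ≠ 1 → x ^ 2 = 1 → ∀ w, ρ x w = -w := fun x hx hx2 w => by
          by_contra h
          refine hx (hfree x (ρ x w + w) (fun h' => h (eq_neg_of_add_eq_zero_left h')) ?_)
          rw [map_add, show ρ x (ρ x w) = (ρ x * ρ x) w from rfl, ← map_mul, ← pow_two, hx2,
            map_one, add_comm]
          rfl
        intro x y hx hy hx2 hy2
        exact hρ (LinearEquiv.ext fun w => by rw [hneg x hx hx2, hneg y hy hy2])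
      by_cases hc : ∀ x : G, x ^ 4 = 1
      · exact Or.inr (Or.inl (Cfsg.Agent.LBMon.q8_of_unique h8 hc hu))
      · push Not at hc
        obtain ⟨x, hx⟩ := hc
        refine Or.inl ⟨isCyclic_of_orderOf_eq_card x ?_, h8⟩
        rw [h8]
        exact orderOf_eq_prime_pow (p := 2) (n := 2) hx
          (show x ^ 2 ^ (2 + 1) = 1 by rw [show 2 ^ (2 + 1) = Nat.card G from h8.symm]; exact pow_card_eq_one')
    · right; right
      refine ⟨?_, h16'⟩
      let B : V ≃ₗ[ZMod 3] (Fin 2 → ZMod 3) := (Module.finBasisOfFinrankEq _ _ h2).equivFun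
      let ι := (toGL B).toMonoidHom.comp ρ
      have hι : Function.Injective ι := (toGL B).injective.comp hρ
      obtain ⟨m, hm, hcm, x, y, hx, hy, hxy⟩ := quasiDihedral_of_sixteen (H := ι.range)
        (by rw [← Nat.card_congr (MonoidHom.ofInjective hι).toEquiv, h16'])
      set e := (MonoidHom.ofInjective hι).symm with he
      refine ⟨m, hm, by rw [← hcm, Nat.card_congr e.toEquiv], e x, e y, ?_, ?_, ?_⟩
      · rw [MulEquiv.orderOf_eq, hx]
      · rw [MulEquiv.orderOf_eq, hy]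
      · rw [← map_inv, ← map_mul, ← map_mul, hxy, map_pow]

end Cfsg.Agent.PGroupTrans
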